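import Groth.Prelude.Def_SymProd
import Mathlib.AlgebraicGeometry.Morphisms.ClosedImmersion

/-!
# Splitting off a factor of a fibre power
-/

set_option autoImplicit false
universe u

open CategoryTheory CategoryTheory.Limits AlgebraicGeometry

namespace Groth.Agent.ZBSym

variable {X S : Scheme.{u}} (f : X ⟶ S) (n : ℕ)

/-- Forgetting the first factor. -/
noncomputable def fibTail : SymProd.fibPow f (n + 1) ⟶ SymProd.fibPow f n :=
  WidePullback.lift (WidePullback.base _) (fun j => WidePullback.π _ j.succ)
    fun _ => WidePullback.π_arrow _ _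

@[reassoc (attr := simp)]
theorem fibTail_π (j : Fin n) :
    fibTail f n ≫ WidePullback.π _ j = WidePullback.π _ j.succ := by
  unfold fibTail; exact WidePullback.lift_π _ _ _ _ j

@[reassoc (attr := simp)]
theorem fibTail_base : fibTail f n ≫ WidePullback.base _ = WidePullback.base _ := by
  unfold fibTail; exact WidePullback.lift_base _ _ _ _

/-- The fibre power as an iterated fibre product. -/
noncomputable def toSucc : SymProd.fibPow f (n + 1) ⟶
    pullback f (WidePullback.base fun _ : Fin n => f) :=
  pullback.lift (WidePullback.π _ 0) (fibTail f n)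
    (by rw [fibTail_base]; exact WidePullback.π_arrow (fun _ : Fin (n + 1) => f) 0)

@[reassoc (attr := simp)]
theorem toSucc_fst : toSucc f n ≫ pullback.fst _ _ = WidePullback.π _ 0 := by
  unfold toSucc; exact pullback.lift_fst _ _ _

@[reassoc (attr := simp)]
theorem toSucc_snd : toSucc f n ≫ pullback.snd _ _ = fibTail f n := by
  unfold toSucc; exact pullback.lift_snd _ _ _

/-- The inverse of `toSucc`. -/
noncomputable def ofSucc : pullback f (WidePullback.base fun _ : Fin n => f) ⟶
    SymProd.fibPow f (n + 1) :=
  WidePullback.lift (pullback.fst f _ ≫ f)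
    (Fin.cases (pullback.fst f _) fun j => pullback.snd f _ ≫ WidePullback.π _ j) fun j => by
      induction j using Fin.cases with
      | zero => rfl
      | succ j =>
        simp only [Fin.cases_succ]
        exact (Category.assoc _ _ _).trans ((congrArg (pullback.snd f _ ≫ ·)
          (WidePullback.π_arrow (fun _ : Fin n => f) j)).trans pullback.condition.symm)

@[reassoc (attr := simp)]
theorem ofSucc_π_zero : ofSucc f n ≫ WidePullback.π _ 0 = pullback.fst f _ := by
  unfold ofSucc
  exact (WidePullback.lift_π _ _ _ _ (0 : Fin (n + 1))).trans rfl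

@[reassoc (attr := simp)]
theorem ofSucc_π_succ (j : Fin n) :
    ofSucc f n ≫ WidePullback.π _ j.succ = pullback.snd f _ ≫ WidePullback.π _ j := by
  unfold ofSucc
  exact (WidePullback.lift_π _ _ _ _ j.succ).trans (by simp only [Fin.cases_succ])

@[reassoc (attr := simp)]
theorem ofSucc_base : ofSucc f n ≫ WidePullback.base _ = pullback.fst f _ ≫ f := by
  unfold ofSucc; exact WidePullback.lift_base _ _ _ _

theorem toSucc_ofSucc : toSucc f n ≫ ofSucc f n = 𝟙 _ := by
  refine WidePullback.hom_ext _ _ _ (fun j => ?_) ?_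
  · rw [Category.assoc, Category.id_comp]
    induction j using Fin.cases with
    | zero => rw [ofSucc_π_zero, toSucc_fst]
    | succ j => rw [ofSucc_π_succ, toSucc_snd_assoc, fibTail_π]
  · rw [Category.assoc, Category.id_comp, ofSucc_base, toSucc_fst_assoc]
    exact WidePullback.π_arrow (fun _ : Fin (n + 1) => f) 0

theorem ofSucc_toSucc : ofSucc f n ≫ toSucc f n = 𝟙 _ := by
  refine pullback.hom_ext ?_ (WidePullback.hom_ext _ _ _ (fun j => ?_) ?_)
  · rw [Category.assoc, toSucc_fst, ofSucc_π_zero, Category.id_comp]
  · simp only [Category.assoc, toSucc_snd_assoc, fibTail_π, ofSucc_π_succ, Category.id_comp]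
  · simp only [Category.assoc, toSucc_snd_assoc, fibTail_base, ofSucc_base, Category.id_comp,
      pullback.condition]

/-- Splitting off the first factor. -/
noncomputable def fibPowSucc :
    SymProd.fibPow f (n + 1) ≅ pullback f (WidePullback.base fun _ : Fin n => f) :=
  ⟨toSucc f n, ofSucc f n, toSucc_ofSucc f n, ofSucc_toSucc f n⟩

theorem fibTail_fibPowMap {Z : Scheme.{u}} (i : Z ⟶ X) (fZ : Z ⟶ S) (w : i ≫ f = fZ) :
    SymProd.fibPowMap fZ (n + 1) f i w ≫ fibTail f n =
      fibTail fZ n ≫ SymProd.fibPowMap fZ n f i w := by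
  refine WidePullback.hom_ext _ _ _ (fun j => ?_) ?_
  · rw [Category.assoc, fibTail_π, SymProd.fibPowMap_π, Category.assoc, SymProd.fibPowMap_π,
      fibTail_π_assoc]
  · rw [Category.assoc, fibTail_base, SymProd.fibPowMap_base, Category.assoc,
      SymProd.fibPowMap_base, fibTail_base]

theorem isIso_base_zero : IsIso (WidePullback.base fun _ : Fin 0 => f) := by
  refine ⟨WidePullback.lift (𝟙 S) (fun j => j.elim0) (fun j => j.elim0),
    WidePullback.hom_ext _ _ _ (fun j => j.elim0) ?_, WidePullback.lift_base _ _ _ _⟩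
  rw [Category.assoc]
  exact (congrArg (WidePullback.base (fun _ : Fin 0 => f) ≫ ·)
    (WidePullback.lift_base _ _ _ _)).trans ((Category.comp_id _).trans (Category.id_comp _).symm)

theorem fibPowMap_succ {Z : Scheme.{u}} (i : Z ⟶ X) (fZ : Z ⟶ S) (w : i ≫ f = fZ) :
    SymProd.fibPowMap fZ (n + 1) f i w = toSucc fZ n ≫
      pullback.map fZ (WidePullback.base fun _ : Fin n => fZ) f
        (WidePullback.base fun _ : Fin n => f) i (SymProd.fibPowMap fZ n f i w) (𝟙 S)
        ((Category.comp_id _).trans w.symm)
        ((Category.comp_id _).trans (SymProd.fibPowMap_base fZ n f i w).symm) ≫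
      ofSucc f n := by
  haveI : Mono (toSucc f n) := (inferInstance : Mono (fibPowSucc f n).hom)
  rw [← cancel_mono (toSucc f n), Category.assoc, Category.assoc, ofSucc_toSucc, Category.comp_id]
  refine pullback.hom_ext ?_ ?_
  · rw [Category.assoc, toSucc_fst, SymProd.fibPowMap_π, Category.assoc, pullback.lift_fst,
      toSucc_fst_assoc]
  · rw [Category.assoc, toSucc_snd, Category.assoc, pullback.lift_snd, toSucc_snd_assoc,
      fibTail_fibPowMap]

theorem property_fibPowMap (P : MorphismProperty Scheme.{u}) [P.IsStableUnderBaseChange]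
    [P.IsStableUnderComposition] [P.ContainsIdentities] [P.RespectsIso] {Z : Scheme.{u}}
    (i : Z ⟶ X) (fZ : Z ⟶ S) (w : i ≫ f = fZ) (hi : P i) (d : ℕ) :
    P (SymProd.fibPowMap fZ d f i w) := by
  induction d with
  | zero =>
    haveI := isIso_base_zero f
    haveI := isIso_base_zero fZ
    haveI : IsIso (SymProd.fibPowMap fZ 0 f i w) := by
      rw [show SymProd.fibPowMap fZ 0 f i w = WidePullback.base (fun _ : Fin 0 => fZ) ≫
          inv (WidePullback.base fun _ : Fin 0 => f) from
        (IsIso.eq_comp_inv _).2 (SymProd.fibPowMap_base fZ 0 f i w)]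
      infer_instance
    exact MorphismProperty.of_isIso P _
  | succ n ih =>
    rw [fibPowMap_succ]
    haveI : IsIso (toSucc fZ n) := (inferInstance : IsIso (fibPowSucc fZ n).hom)
    haveI : IsIso (ofSucc f n) := (inferInstance : IsIso (fibPowSucc f n).inv)
    exact P.comp_mem _ _ (MorphismProperty.of_isIso P _)
      (P.comp_mem _ _ (MorphismProperty.pullbackMap hi ih w.symm
        (SymProd.fibPowMap_base fZ n f i w).symm) (MorphismProperty.of_isIso P _))

end Groth.Agent.ZBSym
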