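import Groth.Agent.ZBSym.Cmp

/-!
# Fractions for functions pulled back from a quotient
-/

set_option autoImplicit false
universe u

open CategoryTheory CategoryTheory.Limits AlgebraicGeometry TopologicalSpace

namespace Groth.Agent.ZBSym

variable {X S Y : Scheme.{u}} {f : X ⟶ S} {d : ℕ} {q : SymProd.fibPow f d ⟶ Y} {g : Y ⟶ S}

theorem fibPowMap_id : SymProd.fibPowMap f d f (𝟙 X) (Category.id_comp f) = 𝟙 _ := by
  refine WidePullback.hom_ext _ _ _ (fun m => ?_) ?_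
  · rw [SymProd.fibPowMap_π, Category.comp_id, Category.id_comp]
  · rw [SymProd.fibPowMap_base, Category.id_comp]

theorem permHom_fibPowMap {Z : Scheme.{u}} (i : Z ⟶ X) (fZ : Z ⟶ S) (w : i ≫ f = fZ)
    (σ : Equiv.Perm (Fin d)) :
    SymProd.permHom fZ d σ ≫ SymProd.fibPowMap fZ d f i w =
      SymProd.fibPowMap fZ d f i w ≫ SymProd.permHom f d σ := by
  refine WidePullback.hom_ext _ _ _ (fun m => ?_) ?_
  · simp
  · simp

/-- The stable open over an affine open of a symmetric product. -/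
noncomputable def stableOpen (hq : SymProd.IsSymProd f d q g) {V : S.Opens} (hV : IsAffineOpen V)
    {VY : Y.Opens} (hVY : IsAffineOpen VY) (hle : VY ≤ g ⁻¹ᵁ V) : StableOpen f d where
  V := V
  hV := hV
  O := q ⁻¹ᵁ VY
  hO := by
    haveI := hq.isQuot.affine
    exact hVY.preimage q
  hst σ := SGA1.preimage_le_of_inv _ q hq.isQuot.inv σ VY
  hbO := by
    rw [← hq.over, Scheme.Hom.comp_preimage]
    exact q.preimage_mono hle

/-- An invariant function pulled back from the target of an invariant map is, near a given point,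
a fraction with numerator and denominator in any subring containing the base and the pullbacks
from the symmetric product. -/
theorem exists_fraction_pulled (hq : SymProd.IsSymProd f d q g) {V : S.Opens} (hV : IsAffineOpen V)
    {VY : Y.Opens} (hVY : IsAffineOpen VY) (hle : VY ≤ g ⁻¹ᵁ V)
    {Z S' Y' : Scheme.{u}} [IsAffine S'] (i : Z ⟶ X) [IsClosedImmersion i]
    (fZ : Z ⟶ S) (w : i ≫ f = fZ) (gS : S' ⟶ S) (hgS : (⊤ : S'.Opens) ≤ gS ⁻¹ᵁ V)
    (hflat : ∀ C : Chart fZ, ∀ hC : (⊤ : S'.Opens) ≤ gS ⁻¹ᵁ C.V,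
      letI := (gS.appLE C.V ⊤ hC).hom.toAlgebra
      Module.Flat Γ(S', ⊤) (TensorProduct Γ(S, C.V) Γ(S', ⊤) C.B))
    (ρ' : Sd.{u} d →* Aut (pullback (WidePullback.base fun _ : Fin d => fZ) gS))
    (hρ' : ∀ σ, (ρ' σ).hom ≫ pullback.fst (WidePullback.base fun _ : Fin d => fZ) gS =
        pullback.fst (WidePullback.base fun _ : Fin d => fZ) gS ≫ SymProd.permHom fZ d σ.down ∧
      (ρ' σ).hom ≫ pullback.snd (WidePullback.base fun _ : Fin d => fZ) gS =
        pullback.snd (WidePullback.base fun _ : Fin d => fZ) gS)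
    (k : pullback (WidePullback.base fun _ : Fin d => fZ) gS ⟶ SymProd.fibPow f d)
    (hk : k = pullback.fst _ _ ≫ SymProd.fibPowMap fZ d f i w)
    (φ : pullback (WidePullback.base fun _ : Fin d => fZ) gS ⟶ Y')
    (hφ : ∀ σ, (ρ' σ).hom ≫ φ = φ) (V' : Y'.Opens) (t : Γ(Y', V'))
    (he : k ⁻¹ᵁ q ⁻¹ᵁ VY ≤ φ ⁻¹ᵁ V')
    (K : Subring Γ(pullback (WidePullback.base fun _ : Fin d => fZ) gS, k ⁻¹ᵁ q ⁻¹ᵁ VY))
    (hc : ∀ c, ((pullback.snd (WidePullback.base fun _ : Fin d => fZ) gS).appLE ⊤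
      (k ⁻¹ᵁ q ⁻¹ᵁ VY) le_top).hom c ∈ K)
    (hb : ∀ b : Γ(Y, VY), (k.app (q ⁻¹ᵁ VY)).hom ((q.app VY).hom b) ∈ K)
    (z : ↥(pullback (WidePullback.base fun _ : Fin d => fZ) gS : Scheme.{u}))
    (hz : k z ∈ q ⁻¹ᵁ VY) :
    ∃ σ α, σ ∈ K ∧ α ∈ K ∧
      z ∈ (pullback (WidePullback.base fun _ : Fin d => fZ) gS).basicOpen σ ∧
      (φ.appLE V' (k ⁻¹ᵁ q ⁻¹ᵁ VY) he).hom t * σ = α := by
  let Ω := stableOpen hq hV hVY hle
  have hequiv : ∀ g, (ρ' g).hom ≫ k = k ≫ (SymProd.permActU f d g).hom := fun g => by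
    rw [hk, ← Category.assoc, (hρ' g).1, Category.assoc, Category.assoc, permHom_fibPowMap]
    rfl
  have hst' : ∀ g, k ⁻¹ᵁ Ω.O ≤ (ρ' g).hom ⁻¹ᵁ k ⁻¹ᵁ Ω.O := fun g => by
    rw [← Scheme.Hom.comp_preimage (ρ' g).hom k, hequiv, Scheme.Hom.comp_preimage]
    exact k.preimage_mono (Ω.hst g)
  have ht : ∀ g, ((ρ' g).hom.appLE _ _ (hst' g)).hom ((φ.appLE V' (k ⁻¹ᵁ Ω.O) he).hom t) =
      (φ.appLE V' (k ⁻¹ᵁ Ω.O) he).hom t := fun g =>
    Chart.appLE_comp_apply (ρ' g).hom φ he (hst' g) t (hφ g) he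
  obtain ⟨σ, α, hσ, hα, hzσ, hrel⟩ :=
    exists_fraction Ω i fZ w gS hgS hflat ρ' hρ' k hk hst' _ ht z hz
  have hK : Subring.closure
      (Set.range ((pullback.snd (WidePullback.base fun _ : Fin d => fZ) gS).appLE ⊤ (k ⁻¹ᵁ Ω.O)
        le_top).hom ∪ (k.app Ω.O).hom '' {a | ∀ g : Sd.{u} d, g • a = a}) ≤ K := by
    refine Subring.closure_le.2 ?_
    rintro _ (⟨c, rfl⟩ | ⟨a, ha, rfl⟩)
    · exact hc c
    · obtain ⟨b, rfl⟩ : a ∈ Set.range (q.app VY).hom := (hq.isQuot.range_iff VY a).2 fun g => by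
        have e := ha g⁻¹
        rw [Ω.smul_def] at e
        simp only [inv_inv] at e
        exact e
      exact hb b
  exact ⟨σ, α, hK hσ, hK hα, hzσ, hrel⟩

end Groth.Agent.ZBSym
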