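import Groth.Agent.ZBSym.Pulled
import Mathlib.RingTheory.Flat.Equalizer
import Mathlib.LinearAlgebra.TensorProduct.Quotient

/-!
# The invariant functions on a flat fibre power form a pure submodule
-/

set_option autoImplicit false
universe u

open CategoryTheory CategoryTheory.Limits AlgebraicGeometry TopologicalSpace
open scoped TensorProduct

namespace Groth.Agent.ZBSym

/-- The symmetric group acting on a tensor power. -/
@[implicit_reducible]
noncomputable def permActionP (R : Type u) [CommRing R] (B : Type u) [CommRing B] [Algebra R B]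
    (d : ℕ) : MulSemiringAction (ULift.{u} (Equiv.Perm (Fin d))) (⨂[R] _ : Fin d, B) where
  smul σ z := SymTen.perm R B d σ.down z
  one_smul z := by
    show SymTen.perm R B d 1 z = z
    rw [perm_one]; rfl
  mul_smul σ τ z := by
    show SymTen.perm R B d (σ.down * τ.down) z = _
    rw [perm_mul]; rfl
  smul_zero σ := map_zero (SymTen.perm R B d σ.down)
  smul_add σ := map_add (SymTen.perm R B d σ.down)
  smul_one σ := map_one (SymTen.perm R B d σ.down)
  smul_mul σ := map_mul (SymTen.perm R B d σ.down)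

theorem mem_map_of_val_mem {R : Type u} [CommRing R] {B : Type u} [CommRing B] [Algebra R B]
    [Module.Flat R B] {d : ℕ} (I : Ideal R) (v : SymTen.TS R B d)
    (hv : (SymTen.TS R B d).val v ∈ I.map (algebraMap R (⨂[R] _ : Fin d, B))) :
    v ∈ I.map (algebraMap R (SymTen.TS R B d)) := by
  have key : ∀ {M : Type u} [CommRing M] [Algebra R M] (x : M),
      x ∈ I.map (algebraMap R M) ↔ ((1 : R ⧸ I) ⊗ₜ[R] x) = 0 := by
    intro M _ _ x
    rw [← (TensorProduct.quotTensorEquivQuotSMul M I).map_eq_zero_iff]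
    show _ ↔ TensorProduct.quotTensorEquivQuotSMul M I (Ideal.Quotient.mk I 1 ⊗ₜ[R] x) = 0
    rw [TensorProduct.quotTensorEquivQuotSMul_mk_tmul, one_smul, Submodule.Quotient.mk_eq_zero,
      Ideal.smul_top_eq_map]
    rfl
  rw [key] at hv ⊢
  exact lTensor_val_injective (R := R) (B := B) (d := d) (R ⧸ I)
    ((LinearMap.lTensor_tmul _ _ _ _).trans (hv.trans (map_zero _).symm))

theorem flat_chart_of_flat {Z S : Scheme.{u}} {f : Z ⟶ S} (hf : Flat f) (C : Chart f) :
    Module.Flat Γ(S, C.V) C.B := by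
  haveI := C.fin
  let _ : ∀ j, Algebra Γ(S, C.V) Γ(Z, C.U j) := fun j =>
    (f.appLE C.V (C.U j) (C.le j)).hom.toAlgebra
  haveI : ∀ j, Module.Flat Γ(S, C.V) Γ(Z, C.U j) := fun j => f.flat_appLE C.hV (C.hU j) (C.le j)
  exact flat_pi (R := Γ(S, C.V)) fun j : C.J => Γ(Z, C.U j)

theorem flat_base {X S : Scheme.{u}} (f : X ⟶ S) (hf : Flat f) (d : ℕ) :
    Flat (WidePullback.base fun _ : Fin d => f) := by
  induction d with
  | zero =>
    haveI := isIso_base_zero f
    infer_instance
  | succ n ih =>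
    have e : (WidePullback.base fun _ : Fin (n + 1) => f) =
        toSucc f n ≫ pullback.fst f (WidePullback.base fun _ : Fin n => f) ≫ f := by
      rw [toSucc_fst_assoc]
      exact (WidePullback.π_arrow (fun _ : Fin (n + 1) => f) 0).symm
    rw [e]
    haveI : IsIso (toSucc f n) := (inferInstance : IsIso (fibPowSucc f n).hom)
    haveI : Flat (pullback.fst f (WidePullback.base fun _ : Fin n => f)) :=
      MorphismProperty.pullback_fst _ _ ih
    haveI := hf
    infer_instance

variable {X S Y : Scheme.{u}} {f : X ⟶ S} {d : ℕ} {q : SymProd.fibPow f d ⟶ Y} {g : Y ⟶ S}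

/-- The structure algebra of the stable open over an affine open of a symmetric product. -/
noncomputable instance stableOpenAlg (hq : SymProd.IsSymProd f d q g) {V : S.Opens}
    (hV : IsAffineOpen V) {VY : Y.Opens} (hVY : IsAffineOpen VY) (hle : VY ≤ g ⁻¹ᵁ V) :
    Algebra Γ(S, V) Γ(SymProd.fibPow f d, (stableOpen hq hV hVY hle).O) :=
  (stableOpen hq hV hVY hle).algA

set_option maxHeartbeats 2000000 in
/-- Near any point, an invariant function in an ideal of the base is in the ideal among the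
invariant functions. -/
theorem exists_mul_mem_map (hf : Flat f) (hq : SymProd.IsSymProd f d q g) {V : S.Opens}
    (hV : IsAffineOpen V) {VY : Y.Opens} (hVY : IsAffineOpen VY) (hle : VY ≤ g ⁻¹ᵁ V)
    (I : Ideal Γ(S, (stableOpen hq hV hVY hle).V)) (x : Γ(Y, VY)) (z : SymProd.fibPow f d)
    (hz : q z ∈ VY)
    (t : Γ(SymProd.fibPow f d, (stableOpen hq hV hVY hle).O)) (htx : t = (q.app VY).hom x)
    (hx : t ∈ I.map (algebraMap Γ(S, (stableOpen hq hV hVY hle).V)
      Γ(SymProd.fibPow f d, (stableOpen hq hV hVY hle).O))) :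
    ∃ c : Γ(Y, VY), q z ∈ Y.basicOpen c ∧
      c * x ∈ I.map (g.appLE (stableOpen hq hV hVY hle).V VY hle).hom := by
  classical
  let Ω := stableOpen hq hV hVY hle
  obtain ⟨P⟩ := exists_spot Ω z hz
  let R := Γ(S, Ω.V)
  let C := P.chart
  haveI : Module.Flat R C.B := flat_chart_of_flat hf C
  letI := permActionP R C.B d
  let T := SymProd.fibPow f d
  let D := Spec (CommRingCat.of (C.P d))
  have htfix : ∀ σ : Sd.{u} d, σ • t = t := fun σ => by
    rw [Ω.smul_def]
    rw [htx]
    exact SGA1Q.appLE_app_of_inv hq.isQuot.inv VY σ⁻¹ x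
  let act := specAct (Sd.{u} d) (C.P d)
  have hΦ : ∀ σ, (act σ).hom ≫ C.Phi d = C.Phi d ≫ (SymProd.permActU f d σ).hom := fun σ =>
    C.Phi_equivariant σ.down
  let κ : P.W.toScheme ⟶ D := P.W.toSpecΓ ≫ Spec.map (CommRingCat.ofHom P.slot.theta)
  have hκ : κ ≫ C.Phi d = P.W.ι := by
    simp only [κ, Category.assoc]
    refine P.slot.toSpecΓ_theta_Phi.trans ?_
    refine (congrArg (P.W.ι ≫ ·) ?_).trans (Category.comp_id _)
    refine WidePullback.hom_ext _ _ _ (fun m => ?_) ?_
    · rw [WidePullback.lift_π, Category.id_comp]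
    · rw [WidePullback.lift_base, Category.id_comp]
  obtain ⟨s, hle', hs, hws, hnum⟩ := exists_numerators act (SymProd.permActU f d) (C.Phi d) hΦ Ω.O
    Ω.hst (κ ⟨z, P.hz⟩) (by
      show (κ ≫ C.Phi d) ⟨z, P.hz⟩ ∈ Ω.O
      rw [hκ]
      exact hz)
  obtain ⟨a, N, ha, hrel⟩ := hnum t fun σ => by
    rw [htx]
    exact SGA1Q.appLE_app_of_inv hq.isQuot.inv VY σ x
  let toP : Γ(D, ⊤) →+* C.P d := (Scheme.ΓSpecIso (CommRingCat.of (C.P d))).hom.hom
  have hinv : ∀ y : Γ(D, ⊤), (∀ σ, (act σ).hom.appTop.hom y = y) →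
      toP y ∈ SymTen.TS R C.B d := by
    intro y hy σ
    rw [← SymTen.perm_apply]
    have e := hy (ULift.up σ)⁻¹
    rw [show y = (Scheme.ΓSpecIso (CommRingCat.of (C.P d))).inv.hom (toP y) from
      ((Scheme.ΓSpecIso (CommRingCat.of (C.P d))).hom_inv_id_apply y).symm, specAct_appTop,
      inv_inv] at e
    exact (ConcreteCategory.bijective_of_isIso (Scheme.ΓSpecIso (CommRingCat.of (C.P d))).inv).1 e
  -- the numerator is in the ideal after multiplication by a power of the denominator
  let alg0 : R →+* Γ(D, ⊤) :=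
    (Scheme.ΓSpecIso (CommRingCat.of (C.P d))).inv.hom.comp (algebraMap R (C.P d))
  let resD : Γ(D, ⊤) →+* Γ(D, D.basicOpen s) := (D.presheaf.map (homOfLE le_top).op).hom
  letI : Algebra Γ(D, ⊤) Γ(D, D.basicOpen s) := resD.toAlgebra
  haveI : IsLocalization.Away s Γ(D, D.basicOpen s) :=
    (isAffineOpen_top D).isLocalization_basicOpen s
  have hbase : ((C.Phi d).appLE Ω.O (D.basicOpen s) hle').hom.comp
      (algebraMap R Γ(T, Ω.O)) = resD.comp alg0 := by
    refine RingHom.ext fun r => ?_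
    have hV' : (⊤ : D.Opens) ≤
        (Spec.map (CommRingCat.ofHom (algebraMap R (C.P d))) ≫ C.hV.fromSpec) ⁻¹ᵁ C.V := fun p _ =>
      C.hV.range_fromSpec.le ⟨_, rfl⟩
    refine (Chart.appLE_comp_apply (C.Phi d) (WidePullback.base fun _ : Fin d => f) Ω.hbO hle' r
      C.Phi_base ((show D.basicOpen s ≤ ⊤ from le_top).trans hV')).trans ?_
    have e1 : (Spec.map (CommRingCat.ofHom (algebraMap R (C.P d))) ≫ C.hV.fromSpec).appLE C.V ⊤ hV' =
        (CommRingCat.ofHom (algebraMap R (C.P d)) : Γ(S, C.V) ⟶ CommRingCat.of (C.P d)) ≫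
          (Scheme.ΓSpecIso (CommRingCat.of (C.P d))).inv := by
      have hV'' : (⊤ : (Spec Γ(S, C.V)).Opens) ≤ C.hV.fromSpec ⁻¹ᵁ C.V := fun p _ =>
        C.hV.range_fromSpec.le ⟨_, rfl⟩
      rw [Scheme.ΓSpecIso_inv_naturality]
      have e2 : C.hV.fromSpec.appLE C.V ⊤ hV'' = (Scheme.ΓSpecIso Γ(S, C.V)).inv := by
        rw [Scheme.Hom.appLE, C.hV.fromSpec_app_self, Category.assoc, ← Functor.map_comp]
        exact (congrArg (_ ≫ ·) ((Spec Γ(S, C.V)).presheaf.map_id _)).trans (Category.comp_id _)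
      have e3 : (Spec.map (CommRingCat.ofHom (algebraMap R (C.P d)))).appTop =
          (Spec.map (CommRingCat.ofHom (algebraMap R (C.P d)))).appLE ⊤ ⊤ le_top :=
        (Scheme.Hom.appLE_eq_app _).symm
      rw [← e2, e3, Scheme.Hom.appLE_comp_appLE]
    refine (congr(($(Scheme.Hom.appLE_map _ hV' (homOfLE le_top).op)).hom r)).symm.trans ?_
    exact congrArg resD (congr(($e1).hom r))
  have hxI : ((C.Phi d).appLE Ω.O (D.basicOpen s) hle').hom t ∈
      (I.map alg0).map (algebraMap Γ(D, ⊤) Γ(D, D.basicOpen s)) := by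
    have h1 := Ideal.mem_map_of_mem ((C.Phi d).appLE Ω.O (D.basicOpen s) hle').hom hx
    rw [Ideal.map_map, hbase, ← Ideal.map_map] at h1
    exact h1
  have haI : algebraMap Γ(D, ⊤) Γ(D, D.basicOpen s) a ∈
      (I.map alg0).map (algebraMap Γ(D, ⊤) Γ(D, D.basicOpen s)) := by
    rw [RingHom.algebraMap_toAlgebra] at hxI ⊢
    show resD a ∈ _
    rw [show resD a = _ from hrel.symm]
    exact Ideal.mul_mem_right _ _ hxI
  obtain ⟨⟨⟨a', ha'⟩, ⟨_, M, rfl⟩⟩, ha''⟩ :=
    (IsLocalization.mem_map_algebraMap_iff (Submonoid.powers s) _).1 haI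
  simp only at ha''
  rw [← map_mul] at ha''
  obtain ⟨⟨_, M', rfl⟩, hM'⟩ := (IsLocalization.eq_iff_exists (Submonoid.powers s) _).1 ha''
  have huI : toP (a * s ^ (M + M')) ∈ I.map (algebraMap R (C.P d)) := by
    have h1 : a * s ^ (M + M') ∈ I.map alg0 := by
      rw [show a * s ^ (M + M') = s ^ M' * (a * s ^ M) by ring, hM']
      exact Ideal.mul_mem_left _ _ ha'
    have h2 := Ideal.mem_map_of_mem toP h1
    erw [Ideal.map_map] at h2
    rwa [show toP.comp alg0 = algebraMap R (C.P d) from RingHom.ext fun r =>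
      (Scheme.ΓSpecIso (CommRingCat.of (C.P d))).inv_hom_id_apply _] at h2
  -- the relation on the open of the spot
  let res : Γ(T, Ω.O) →+* Γ(T, P.W) := P.res
  have hκtop : ∀ y, P.W.topIso.hom.hom (κ.appTop.hom y) = P.slot.theta (toP y) := fun y => by
    have e : κ.appTop ≫ P.W.topIso.hom =
        (Scheme.ΓSpecIso (CommRingCat.of (C.P d))).hom ≫ CommRingCat.ofHom P.slot.theta := by
      simp only [κ, Scheme.Hom.comp_appTop, Scheme.Opens.toSpecΓ_appTop, Category.assoc,
        Iso.inv_hom_id, Category.comp_id]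
      exact Scheme.ΓSpecIso_naturality _
    exact congr(($e).hom y)
  have hWO : P.W ≤ Ω.O := T.basicOpen_le P.e
  obtain ⟨M₂, hM₂⟩ : ∃ M₂ : ℕ, P.slot.theta (toP s) ^ M₂ *
      (res t * P.slot.theta (toP s) ^ N - P.slot.theta (toP a)) = 0 := by
    let E := P.W.toScheme
    haveI : IsAffine E := Ω.hO.basicOpen P.e
    let σE : Γ(E, ⊤) := κ.appTop.hom s
    have hpre : κ ⁻¹ᵁ D.basicOpen s = E.basicOpen σE := Scheme.preimage_basicOpen_top κ s
    letI : Algebra Γ(E, ⊤) Γ(E, E.basicOpen σE) :=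
      (E.presheaf.map (homOfLE le_top).op).hom.toAlgebra
    haveI : IsLocalization.Away σE Γ(E, E.basicOpen σE) :=
      (isAffineOpen_top E).isLocalization_basicOpen σE
    have e1 := congrArg (κ.appLE _ (E.basicOpen σE) hpre.ge).hom hrel
    rw [map_mul, map_pow] at e1
    have htop : ∀ y, (κ.appLE _ (E.basicOpen σE) hpre.ge).hom
        ((D.presheaf.map (homOfLE le_top).op).hom y) =
          algebraMap Γ(E, ⊤) Γ(E, E.basicOpen σE) (κ.appTop.hom y) := fun y => by
      have e : D.presheaf.map (homOfLE le_top).op ≫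
          κ.appLE (D.basicOpen s) (E.basicOpen σE) hpre.ge =
          κ.appTop ≫ E.presheaf.map (homOfLE le_top).op := by
        rw [Scheme.Hom.map_appLE]
        rfl
      exact congr(($e).hom y)
    have hOE : (⊤ : E.Opens) ≤ P.W.ι ⁻¹ᵁ Ω.O := fun y _ => hWO y.2
    have ht' : (κ.appLE _ (E.basicOpen σE) hpre.ge).hom
        (((C.Phi d).appLE Ω.O (D.basicOpen s) hle').hom t) =
        algebraMap Γ(E, ⊤) Γ(E, E.basicOpen σE) ((P.W.ι.appLE Ω.O ⊤ hOE).hom t) := by
      refine (Chart.appLE_comp_apply κ (C.Phi d) hle' hpre.ge t hκ (fun y _ => hWO y.2)).trans ?_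
      exact congr(($(Scheme.Hom.appLE_map P.W.ι hOE (homOfLE le_top).op)).hom t).symm
    rw [ht', htop, htop, ← map_pow, ← map_mul] at e1
    obtain ⟨⟨_, M, rfl⟩, hM⟩ := (IsLocalization.eq_iff_exists (Submonoid.powers σE) _).1 e1
    refine ⟨M, ?_⟩
    have hι : P.W.topIso.hom.hom ((P.W.ι.appLE Ω.O ⊤ hOE).hom t) = res t := by
      have e : P.W.ι.appLE Ω.O ⊤ hOE ≫ P.W.topIso.hom = T.presheaf.map (homOfLE hWO).op := by
        simp only [Scheme.Hom.appLE, Scheme.Opens.ι_app, Scheme.Opens.topIso_hom,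
          Scheme.Opens.toScheme_presheaf_map]
        erw [← Functor.map_comp, ← Functor.map_comp]
        rfl
      exact congr(($e).hom t)
    have h2 := congrArg P.W.topIso.hom.hom hM
    simp only [map_mul, map_pow, σE, hκtop, hι] at h2
    rw [mul_sub, h2, sub_self]
  -- passing to fractions of fixed functions
  obtain ⟨θ, hθ⟩ := P.exists_thetaL
  let sT : SymTen.TS R C.B d := ⟨toP s, hinv s hs⟩
  let uT : SymTen.TS R C.B d := ⟨toP (a * s ^ (M + M')), hinv _ fun σ => by rw [map_mul, map_pow, ha, hs]⟩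
  let xH : P.fixed := ⟨t, fun σ _ => htfix σ⟩
  let K := N + M₂ + (M + M')
  have hL : θ sT ^ K * algebraMap P.fixed P.L xH ∈ I.map (algebraMap R P.L) := by
    have h1 : θ (sT ^ M₂ * uT) ∈ I.map (algebraMap R P.L) := by
      have h0 := Ideal.mem_map_of_mem θ.toRingHom
        ((mem_map_of_val_mem I uT huI : uT ∈ I.map (algebraMap R (SymTen.TS R C.B d))))
      rw [Ideal.map_map, show θ.toRingHom.comp (algebraMap R (SymTen.TS R C.B d)) = algebraMap R P.L
        from RingHom.ext fun r => θ.commutes r] at h0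
      rw [map_mul]
      exact Ideal.mul_mem_left _ _ h0
    convert h1 using 1
    refine P.iota_injective ?_
    rw [map_mul, map_pow, hθ, P.iota_algebraMap, hθ]
    show P.slot.theta (toP s) ^ K * res t =
      P.slot.theta ((SymTen.TS R C.B d).val (sT ^ M₂ * uT))
    rw [map_mul (SymTen.TS R C.B d).val, map_pow, map_mul P.slot.theta, map_pow]
    show _ = P.slot.theta (toP s) ^ M₂ * P.slot.theta (toP (a * s ^ (M + M')))
    rw [map_mul toP, map_pow, map_mul P.slot.theta, map_pow]
    linear_combination (P.slot.theta (toP s)) ^ (M + M') * hM₂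
  obtain ⟨⟨bs, ⟨_, n, rfl⟩⟩, hbs⟩ := IsLocalization.surj (Submonoid.powers P.eH) (θ sT)
  simp only at hbs
  have hbI : algebraMap P.fixed P.L (bs ^ K * xH) ∈
      (I.map (algebraMap R P.fixed)).map (algebraMap P.fixed P.L) := by
    rw [Ideal.map_map, ← IsScalarTower.algebraMap_eq, map_mul, map_pow, ← hbs, mul_pow,
      mul_right_comm]
    exact Ideal.mul_mem_right _ _ hL
  obtain ⟨⟨⟨y, hy⟩, ⟨_, j, rfl⟩⟩, hy'⟩ :=
    (IsLocalization.mem_map_algebraMap_iff (Submonoid.powers P.eH) _).1 hbI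
  simp only at hy'
  rw [← map_mul] at hy'
  obtain ⟨⟨_, j', rfl⟩, hj'⟩ := (IsLocalization.eq_iff_exists (Submonoid.powers P.eH) _).1 hy'
  let σH : P.fixed := P.eH ^ (j + j' + 1) * bs ^ K
  have hσx : σH * xH ∈ I.map (algebraMap R P.fixed) := by
    have : σH * xH = P.eH * (P.eH ^ j' * y) := by
      rw [← hj']
      simp only [σH]
      ring
    rw [this]
    exact Ideal.mul_mem_left _ _ (Ideal.mul_mem_left _ _ hy)
  -- the trace
  letI : Algebra R Γ(Y, VY) := (g.appLE V VY hle).hom.toAlgebra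
  have hpq : ∀ r : R, (q.app VY).hom (algebraMap R Γ(Y, VY) r) = algebraMap R Γ(T, Ω.O) r := fun r => by
    rw [Scheme.Hom.app_eq_appLE]
    exact Chart.appLE_comp_apply q g hle le_rfl r hq.over _
  have htr : ∀ b : P.fixed, ∃ c, (q.app VY).hom c = tr P.H b.1 := fun b =>
    (hq.isQuot.range_iff VY _).2 fun σ => by
      have e := smul_tr P.H b.2 σ⁻¹
      rw [Ω.smul_def] at e
      simp only [inv_inv] at e
      exact e
  choose τ hτ using htr
  let τl : P.fixed →ₗ[R] Γ(Y, VY) :=
    { toFun := τ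
      map_add' := fun b b' => hq.isQuot.injective VY (by
        rw [map_add, hτ, hτ, hτ]; exact tr_add P.H b.1 b'.1)
      map_smul' := fun r b => hq.isQuot.injective VY (by
        rw [RingHom.id_apply, hτ, Algebra.smul_def, Algebra.smul_def, map_mul, hτ, hpq]
        exact tr_mul P.H (fun σ => Ω.smul_algebraMap σ r) b.1) }
  refine ⟨τ σH, ?_, ?_⟩
  · by_contra hc
    let qq : Ideal Γ(T, Ω.O) := RingHom.ker (T.evaluation Ω.O z hz).hom
    have hqq : ∀ y, y ∈ qq ↔ z ∉ T.basicOpen y := fun y =>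
      Scheme.evaluation_eq_zero_iff_notMem_basicOpen T (U := Ω.O) z hz y
    have hqp : qq.IsPrime := RingHom.ker_isPrime _
    have h1 : tr P.H σH.1 ∈ qq := by
      rw [hqq, ← hτ]
      erw [← Scheme.preimage_basicOpen]
      exact hc
    refine tr_notMem P.H qq σH.2 (fun hmem => ?_) (fun g' hg' => ?_) h1
    · have he : P.e ∉ qq := fun h => (hqq _).1 h P.hz
      have hb : bs.1 ∉ qq := fun h => (hqq _).1 h (by
        have h2 : z ∈ T.basicOpen (P.res bs.1) := by
          rw [← P.iota_algebraMap, ← hbs, map_mul, hθ, P.iota_algebraMap, Scheme.basicOpen_mul]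
          refine ⟨?_, ?_⟩
          · have h2 : (⟨z, P.hz⟩ : P.W.toScheme) ∈ P.W.toScheme.basicOpen (κ.appTop.hom s) := by
              rw [← Scheme.preimage_basicOpen_top]; exact hws
            have h3 : z ∈ P.W.ι ''ᵁ P.W.toScheme.basicOpen (κ.appTop.hom s) := ⟨_, h2, rfl⟩
            rw [show κ.appTop.hom s = P.W.topIso.inv.hom (P.slot.theta (toP s)) by
              rw [← hκtop]; exact (P.W.topIso.hom_inv_id_apply _).symm] at h3
            exact (Scheme.Opens.ι_image_basicOpen_topIso_inv P.W _).le h3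
          · rw [SubmonoidClass.coe_pow, map_pow]
            suffices hpow : ∀ i : ℕ, z ∈ T.basicOpen (P.res P.e ^ i) from hpow n
            intro i
            induction i with
            | zero => rw [pow_zero, Scheme.basicOpen_one]; exact P.hz
            | succ i ih =>
              rw [pow_succ, Scheme.basicOpen_mul]
              refine ⟨ih, ?_⟩
              show z ∈ T.basicOpen ((T.presheaf.map (homOfLE hWO).op).hom P.e)
              rw [Scheme.basicOpen_res]
              exact ⟨P.hz, P.hz⟩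
        rw [show P.res bs.1 = (T.presheaf.map (homOfLE hWO).op).hom bs.1 from rfl,
          Scheme.basicOpen_res] at h2
        exact h2.2)
      rw [MulMemClass.coe_mul, SubmonoidClass.coe_pow, SubmonoidClass.coe_pow] at hmem
      exact (hqp.mem_or_mem hmem).elim (fun h => he (hqp.mem_of_pow_mem _ h))
        fun h => hb (hqp.mem_of_pow_mem _ h)
    · have he : g' • P.e ∈ qq := by
        rw [hqq]
        intro hmem
        rw [Ω.basicOpen_smul] at hmem
        exact P.hout g'⁻¹ (fun h => hg' (inv_inv g' ▸ P.H.inv_mem h)) hmem.2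
      rw [MulMemClass.coe_mul, SubmonoidClass.coe_pow, smul_mul', smul_pow']
      exact qq.mul_mem_right _ (qq.pow_mem_of_mem he _ (Nat.succ_pos _))
  · have h1 : τ σH * x = τl (σH * xH) := hq.isQuot.injective VY (by
      rw [map_mul, hτ, show τl (σH * xH) = τ (σH * xH) from rfl, hτ]
      rw [← htx]
      show tr P.H σH.1 * t = tr P.H (σH.1 * t)
      rw [mul_comm σH.1 t, tr_mul P.H htfix, mul_comm])
    rw [h1]
    have hsm : σH * xH ∈ I • (⊤ : Submodule R P.fixed) := by
      rw [Ideal.smul_top_eq_map]; exact hσx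
    have := Submodule.mem_map_of_mem (f := τl) hsm
    rw [Submodule.map_smul''] at this
    have h2 : τl (σH * xH) ∈ I • (⊤ : Submodule R Γ(Y, VY)) :=
      Submodule.smul_mono le_rfl le_top this
    rwa [Ideal.smul_top_eq_map] at h2

theorem mem_map_of_app_mem (hf : Flat f) (hq : SymProd.IsSymProd f d q g) {V : S.Opens}
    (hV : IsAffineOpen V) {VY : Y.Opens} (hVY : IsAffineOpen VY) (hle : VY ≤ g ⁻¹ᵁ V)
    (I : Ideal Γ(S, V)) (x : Γ(Y, VY))
    (hx : (q.app VY).hom x ∈
      I.map (algebraMap Γ(S, V) Γ(SymProd.fibPow f d, (stableOpen hq hV hVY hle).O))) :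
    x ∈ I.map (g.appLE V VY hle).hom := by
  let J : Ideal Γ(Y, VY) := (I.map (g.appLE V VY hle).hom).colon {x}
  suffices J = ⊤ by
    simpa [J, Submodule.mem_colon_singleton] using this
  by_contra hne
  obtain ⟨p, hp, hJp⟩ := Ideal.exists_le_maximal J hne
  obtain ⟨z, hz⟩ := SGA1Q.surjective hq.isQuot (hVY.fromSpec ⟨p, hp.isPrime⟩)
  have hz' : q z ∈ VY := hz ▸ hVY.range_fromSpec.le ⟨_, rfl⟩
  obtain ⟨c, hc, hcx⟩ := exists_mul_mem_map hf hq hV hVY hle I x z hz' _ rfl hx
  have hcJ : c ∈ J := Submodule.mem_colon_singleton.2 (by rwa [smul_eq_mul])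
  have h2 : (⟨p, hp.isPrime⟩ : PrimeSpectrum Γ(Y, VY)) ∈ hVY.fromSpec ⁻¹ᵁ Y.basicOpen c := by
    show hVY.fromSpec ⟨p, hp.isPrime⟩ ∈ Y.basicOpen c
    rw [← hz]
    exact hc
  rw [hVY.fromSpec_preimage_basicOpen] at h2
  exact h2 (hJp hcJ)

/-- Invariant functions on a flat fibre power form a pure submodule. -/
theorem lTensor_app_injective (hf : Flat f) (hq : SymProd.IsSymProd f d q g) {V : S.Opens}
    (hV : IsAffineOpen V) {VY : Y.Opens} (hVY : IsAffineOpen VY) (hle : VY ≤ g ⁻¹ᵁ V)
    (M : Type u) [AddCommGroup M] [Module Γ(S, V) M] :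
    letI := (g.appLE V VY hle).hom.toAlgebra
    ∀ φ : Γ(Y, VY) →ₗ[Γ(S, V)] Γ(SymProd.fibPow f d, (stableOpen hq hV hVY hle).O),
      (∀ y, φ y = (q.app VY).hom y) → Function.Injective (φ.lTensor M) := by
  let R := Γ(S, V)
  let Ω := stableOpen hq hV hVY hle
  letI : Algebra R Γ(Y, VY) := (g.appLE V VY hle).hom.toAlgebra
  intro φ hφ
  let A := Γ(SymProd.fibPow f d, Ω.O)
  haveI : Module.Flat R A := (flat_base f hf d |> fun h =>
    @Scheme.Hom.flat_appLE _ _ (WidePullback.base fun _ : Fin d => f) h _ hV _ Ω.hO Ω.hbO)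
  let π : A →ₗ[R] A ⧸ LinearMap.range φ := (LinearMap.range φ).mkQ
  have hexact : Function.Exact φ π := LinearMap.exact_map_mkQ_range φ
  haveI : Module.Flat R (A ⧸ LinearMap.range φ) := by
    rw [Module.Flat.iff_lTensor_injective']
    intro I
    refine (injective_iff_map_eq_zero _).2 fun z hz => ?_
    obtain ⟨zA, rfl⟩ := LinearMap.rTensor_surjective I (Submodule.mkQ_surjective _) z
    let a₀ : A := TensorProduct.rid R A (I.subtype.lTensor A zA)
    have ha₀ : π a₀ = 0 := by
      have e : ∀ w : A ⊗[R] I, π (TensorProduct.rid R A (I.subtype.lTensor A w)) =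
          TensorProduct.rid R _ (I.subtype.lTensor _ (π.rTensor I w)) := by
        intro w
        induction w using TensorProduct.induction_on with
        | zero => simp
        | tmul a i => simp [π]
        | add u v hu hv => simp only [map_add, hu, hv]
      rw [e, hz, map_zero]
    obtain ⟨y, hy⟩ := (hexact _).1 ha₀
    have hyI : a₀ ∈ I.map (algebraMap R A) := by
      have e : ∀ w : A ⊗[R] I, TensorProduct.rid R A (I.subtype.lTensor A w) ∈
          I.map (algebraMap R A) := by
        intro w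
        induction w using TensorProduct.induction_on with
        | zero => simp
        | tmul a i =>
          rw [LinearMap.lTensor_tmul, TensorProduct.rid_tmul, Algebra.smul_def]
          exact Ideal.mul_mem_right _ _ (Ideal.mem_map_of_mem _ i.2)
        | add u v hu hv => simp only [map_add]; exact add_mem hu hv
      exact e zA
    rw [← hy, hφ] at hyI
    have hy2 := mem_map_of_app_mem hf hq hV hVY hle I y hyI
    have hy3 : y ∈ I • (⊤ : Submodule R Γ(Y, VY)) := by
      rw [Ideal.smul_top_eq_map]; exact hy2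
    obtain ⟨w, hw⟩ : ∃ w : Γ(Y, VY) ⊗[R] I,
        TensorProduct.rid R _ (I.subtype.lTensor _ w) = y := by
      clear hy hy2 hyI
      refine Submodule.smul_induction_on hy3 (fun r hr b _ => ⟨b ⊗ₜ[R] ⟨r, hr⟩, by simp⟩) ?_
      rintro u v ⟨wu, rfl⟩ ⟨wv, rfl⟩
      exact ⟨wu + wv, by simp⟩
    have heq : φ.rTensor I w = zA := by
      refine Module.Flat.lTensor_preserves_injective_linearMap (M := A) I.subtype
        Subtype.val_injective ((TensorProduct.rid R A).injective ?_)
      rw [show TensorProduct.rid R A (I.subtype.lTensor A zA) = a₀ from rfl, ← hy, ← hw]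
      clear hw
      induction w using TensorProduct.induction_on with
      | zero => simp
      | tmul b i =>
        rw [LinearMap.rTensor_tmul, LinearMap.lTensor_tmul, TensorProduct.rid_tmul]
        simp
      | add u v hu hv => simp only [map_add, hu, hv]
    rw [← heq, ← LinearMap.comp_apply, ← LinearMap.rTensor_comp,
      show π.comp φ = 0 from hexact.linearMap_comp_eq_zero, LinearMap.rTensor_zero]
    rfl
  refine LinearMap.lTensor_injective_of_exact_of_flat π (Submodule.mkQ_surjective _) φ ?_ hexact M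
  intro u v huv
  exact hq.isQuot.injective VY (by rw [← hφ, ← hφ, huv])

end Groth.Agent.ZBSym
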