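import Groth.Prelude.Def_SymProd
import Groth.Prelude.Def_SymTen
import Mathlib.RingTheory.PiTensorProduct
import Mathlib.AlgebraicGeometry.Limits
import Mathlib.AlgebraicGeometry.Morphisms.ClosedImmersion

/-!
# Affine charts of fibre powers
-/

set_option autoImplicit false
universe u

open CategoryTheory CategoryTheory.Limits AlgebraicGeometry TopologicalSpace
open scoped TensorProduct

namespace Groth.Agent.ZBSym

variable {X S : Scheme.{u}}

/-- Finitely many affine opens of `X` over one affine open of `S`. -/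
structure Chart (f : X ⟶ S) where
  V : S.Opens
  hV : IsAffineOpen V
  J : Type u
  fin : Finite J
  U : J → X.Opens
  hU : ∀ j, IsAffineOpen (U j)
  le : ∀ j, U j ≤ f ⁻¹ᵁ V

namespace Chart

variable {f : X ⟶ S} (C : Chart f) {d : ℕ}

/-- The ring of the disjoint union of the chart. -/
abbrev B : Type u := (j : C.J) → Γ(X, C.U j)

noncomputable instance algB : Algebra Γ(S, C.V) C.B :=
  (Pi.ringHom fun j => (f.appLE C.V (C.U j) (C.le j)).hom).toAlgebra

theorem algebraMap_B (r : Γ(S, C.V)) (j : C.J) :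
    algebraMap Γ(S, C.V) C.B r j = (f.appLE C.V (C.U j) (C.le j)).hom r := rfl

/-- The tensor power of the ring of the chart. -/
abbrev P (d : ℕ) : Type u := ⨂[Γ(S, C.V)] _ : Fin d, C.B

/-- The inclusion of a factor. -/
noncomputable abbrev single (i : Fin d) : C.B →ₐ[Γ(S, C.V)] C.P d :=
  PiTensorProduct.singleAlgHom (R := Γ(S, C.V)) (A := fun _ : Fin d => C.B) i

theorem P_hom_ext {A : Type u} [CommRing A] (φ ψ : C.P d →+* A)
    (h₀ : ∀ r, φ (algebraMap Γ(S, C.V) (C.P d) r) = ψ (algebraMap Γ(S, C.V) (C.P d) r))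
    (h : ∀ i b, φ (C.single i b) = ψ (C.single i b)) : φ = ψ := by
  let _ : Algebra Γ(S, C.V) A := (φ.comp (algebraMap Γ(S, C.V) (C.P d))).toAlgebra
  let φ' : C.P d →ₐ[Γ(S, C.V)] A := { φ with commutes' := fun _ => rfl }
  let ψ' : C.P d →ₐ[Γ(S, C.V)] A := { ψ with commutes' := fun r => (h₀ r).symm }
  have : φ' = ψ' := PiTensorProduct.algHom_ext fun i => AlgHom.ext (h i)
  exact congrArg AlgHom.toRingHom this

theorem perm_single (σ : Equiv.Perm (Fin d)) (i : Fin d) (b : C.B) :
    SymTen.perm Γ(S, C.V) C.B d σ (C.single i b) = C.single (σ i) b := by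
  show SymTen.perm Γ(S, C.V) C.B d σ (PiTensorProduct.tprod _ (Pi.mulSingle i b)) =
    PiTensorProduct.tprod _ (Pi.mulSingle (σ i) b)
  rw [SymTen.perm_tprod]
  refine congrArg _ (funext fun k => ?_)
  rw [Pi.mulSingle_apply, Pi.mulSingle_apply]
  exact if_congr (Equiv.symm_apply_eq σ) rfl rfl

/-- The map from the disjoint union of the chart. -/
noncomputable def psi : Spec (CommRingCat.of C.B) ⟶ X :=
  haveI := C.fin
  inv (sigmaSpec fun j => Γ(X, C.U j)) ≫ Sigma.desc fun j => (C.hU j).fromSpec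

theorem eval_psi (j : C.J) :
    Spec.map (CommRingCat.ofHom (Pi.evalRingHom (fun j => Γ(X, C.U j)) j)) ≫ C.psi =
      (C.hU j).fromSpec := by
  haveI := C.fin
  rw [psi, ← Category.assoc]
  erw [← ι_sigmaSpec (fun j => Γ(X, C.U j)) j]
  exact (Category.assoc _ _ _).trans
    ((congrArg (Sigma.ι (fun j => Spec Γ(X, C.U j)) j ≫ ·) (IsIso.hom_inv_id_assoc _ _)).trans
      (Sigma.ι_desc _ _))

theorem psi_comp : C.psi ≫ f =
    Spec.map (CommRingCat.ofHom (algebraMap Γ(S, C.V) C.B)) ≫ C.hV.fromSpec := by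
  haveI := C.fin
  rw [← cancel_epi (sigmaSpec fun j => Γ(X, C.U j))]
  refine Sigma.hom_ext _ _ fun j => ?_
  rw [ι_sigmaSpec_assoc, ι_sigmaSpec_assoc]
  erw [← Category.assoc, C.eval_psi j, ← Spec.map_comp_assoc]
  rw [← IsAffineOpen.SpecMap_appLE_fromSpec f C.hV (C.hU j) (C.le j)]
  rfl

/-- The map from the spectrum of the tensor power to the fibre power. -/
noncomputable def Phi (d : ℕ) : Spec (CommRingCat.of (C.P d)) ⟶ SymProd.fibPow f d :=
  WidePullback.lift (Spec.map (CommRingCat.ofHom (algebraMap Γ(S, C.V) (C.P d))) ≫ C.hV.fromSpec)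
    (fun i => Spec.map (CommRingCat.ofHom (C.single i).toRingHom) ≫ C.psi) fun i => by
      rw [Category.assoc, psi_comp, ← Spec.map_comp_assoc]
      congr 2
      ext r
      exact (C.single i).commutes r

@[reassoc]
theorem Phi_π (i : Fin d) : C.Phi d ≫ WidePullback.π _ i =
    Spec.map (CommRingCat.ofHom (C.single i).toRingHom) ≫ C.psi := by
  unfold Phi; exact WidePullback.lift_π _ _ _ _ i

@[reassoc]
theorem Phi_base : C.Phi d ≫ WidePullback.base _ =
    Spec.map (CommRingCat.ofHom (algebraMap Γ(S, C.V) (C.P d))) ≫ C.hV.fromSpec := by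
  unfold Phi; exact WidePullback.lift_base _ _ _ _

/-- A point of the fibre power, with values in an open of a scheme, inside a product of the
chart. -/
structure Slot (T : Scheme.{u}) (d : ℕ) where
  b : T ⟶ S
  p : Fin d → (T ⟶ X)
  w : ∀ i, p i ≫ f = b
  W : T.Opens
  c : Fin d → C.J
  hc : ∀ i, W ≤ p i ⁻¹ᵁ C.U (c i)
  hb : W ≤ b ⁻¹ᵁ C.V

variable {C} {T : Scheme.{u}} (D : C.Slot T d)

/-- The structure algebra of a slot. -/
@[implicit_reducible]
noncomputable def Slot.alg : Algebra Γ(S, C.V) Γ(T, D.W) :=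
  (D.b.appLE C.V D.W D.hb).hom.toAlgebra

/-- One factor of a slot. -/
noncomputable def Slot.factor (i : Fin d) :
    letI := D.alg
    C.B →ₐ[Γ(S, C.V)] Γ(T, D.W) :=
  letI := D.alg
  { toRingHom := ((D.p i).appLE (C.U (D.c i)) D.W (D.hc i)).hom.comp
      (Pi.evalRingHom (fun j => Γ(X, C.U j)) (D.c i))
    commutes' := fun r => by
      show ((D.p i).appLE (C.U (D.c i)) D.W (D.hc i)).hom
        ((f.appLE C.V (C.U (D.c i)) (C.le _)).hom r) = (D.b.appLE C.V D.W D.hb).hom r
      have e : f.appLE C.V (C.U (D.c i)) (C.le _) ≫ (D.p i).appLE (C.U (D.c i)) D.W (D.hc i) =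
          D.b.appLE C.V D.W D.hb := by
        rw [Scheme.Hom.appLE_comp_appLE]
        simp only [D.w i]
      exact congr(($e).hom r) }

/-- The ring map of a slot. -/
noncomputable def Slot.theta : C.P d →+* Γ(T, D.W) :=
  letI := D.alg
  (PiTensorProduct.liftAlgHom
    ((MultilinearMap.mkPiAlgebra Γ(S, C.V) (Fin d) Γ(T, D.W)).compLinearMap fun i =>
      (D.factor i).toLinearMap)
    (by simp only [MultilinearMap.compLinearMap_apply, MultilinearMap.mkPiAlgebra_apply,
      AlgHom.toLinearMap_apply, Pi.one_apply, map_one, Finset.prod_const_one])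
    (fun x y => by simp only [MultilinearMap.compLinearMap_apply, MultilinearMap.mkPiAlgebra_apply,
      AlgHom.toLinearMap_apply, Pi.mul_apply, map_mul, Finset.prod_mul_distrib])).toRingHom

theorem Slot.theta_algebraMap (r : Γ(S, C.V)) :
    D.theta (algebraMap Γ(S, C.V) (C.P d) r) = (D.b.appLE C.V D.W D.hb).hom r :=
  letI := D.alg
  AlgHom.commutes (PiTensorProduct.liftAlgHom _ _ _) r

theorem Slot.theta_single (i : Fin d) (a : C.B) :
    D.theta (C.single i a) =
      ((D.p i).appLE (C.U (D.c i)) D.W (D.hc i)).hom (a (D.c i)) := by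
  letI := D.alg
  show PiTensorProduct.lift _ (PiTensorProduct.tprod _ (MonoidHom.mulSingle (fun _ : Fin d => C.B) i a)) = _
  simp only [PiTensorProduct.lift.tprod, MultilinearMap.compLinearMap_apply,
    MultilinearMap.mkPiAlgebra_apply, AlgHom.toLinearMap_apply]
  rw [Finset.prod_eq_single i (fun j _ hj => by
    rw [MonoidHom.mulSingle_apply, Pi.mulSingle_eq_of_ne hj, map_one]) (by simp)]
  rw [MonoidHom.mulSingle_apply, Pi.mulSingle_eq_same]
  rfl

@[reassoc]
theorem Slot.toSpecΓ_theta_Phi :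
    D.W.toSpecΓ ≫ Spec.map (CommRingCat.ofHom D.theta) ≫ C.Phi d =
      D.W.ι ≫ WidePullback.lift D.b D.p D.w := by
  refine WidePullback.hom_ext _ _ _ (fun i => ?_) ?_
  · simp only [Category.assoc, WidePullback.lift_π, Phi_π]
    rw [← Spec.map_comp_assoc]
    have : CommRingCat.ofHom (C.single i).toRingHom ≫ CommRingCat.ofHom D.theta =
        CommRingCat.ofHom (Pi.evalRingHom (fun j => Γ(X, C.U j)) (D.c i)) ≫
          (D.p i).appLE (C.U (D.c i)) D.W (D.hc i) := CommRingCat.hom_ext <| RingHom.ext fun a =>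
      D.theta_single i a
    rw [this, Spec.map_comp_assoc]
    erw [C.eval_psi (D.c i)]
    rw [Scheme.Opens.toSpecΓ_SpecMap_appLE_assoc, IsAffineOpen.toSpecΓ_fromSpec]
    exact Scheme.Hom.resLE_comp_ι _ _
  · simp only [Category.assoc, WidePullback.lift_base, Phi_base]
    rw [← Spec.map_comp_assoc]
    have : CommRingCat.ofHom (algebraMap Γ(S, C.V) (C.P d)) ≫ CommRingCat.ofHom D.theta =
        D.b.appLE C.V D.W D.hb := CommRingCat.hom_ext <| RingHom.ext fun r => D.theta_algebraMap r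
    rw [this, Scheme.Opens.toSpecΓ_SpecMap_appLE_assoc, IsAffineOpen.toSpecΓ_fromSpec]
    exact Scheme.Hom.resLE_comp_ι _ _

theorem appLE_index_congr {T₁ : Scheme.{u}} {W₁ : T₁.Opens} (a : C.B) {j j' : C.J} (h : j = j')
    {m m' : T₁ ⟶ X} (hm : m = m') (e : W₁ ≤ m ⁻¹ᵁ C.U j) (e' : W₁ ≤ m' ⁻¹ᵁ C.U j') :
    (m.appLE (C.U j) W₁ e).hom (a j) = (m'.appLE (C.U j') W₁ e').hom (a j') := by
  subst h hm
  rfl

theorem appLE_comp_apply {T₁ T₂ T₃ : Scheme.{u}} (k : T₁ ⟶ T₂) (l : T₂ ⟶ T₃) {U : T₃.Opens}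
    {V : T₂.Opens} {W : T₁.Opens} (e₁ : V ≤ l ⁻¹ᵁ U) (e₂ : W ≤ k ⁻¹ᵁ V) (a : Γ(T₃, U))
    {m : T₁ ⟶ T₃} (hm : k ≫ l = m) (e : W ≤ m ⁻¹ᵁ U) :
    (k.appLE V W e₂).hom ((l.appLE U V e₁).hom a) = (m.appLE U W e).hom a := by
  subst hm
  exact congr(($(Scheme.Hom.appLE_comp_appLE k l U V W e₁ e₂)).hom a)

/-- Pulling back a slot. -/
theorem Slot.theta_natural {T' : Scheme.{u}} (k : T' ⟶ T) (D' : C.Slot T' d)
    (hb : k ≫ D.b = D'.b) (hp : ∀ i, k ≫ D.p i = D'.p i) (hc : ∀ i, D'.c i = D.c i)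
    (hW : D'.W ≤ k ⁻¹ᵁ D.W) (a : C.P d) :
    (k.appLE D.W D'.W hW).hom (D.theta a) = D'.theta a := by
  suffices (k.appLE D.W D'.W hW).hom.comp D.theta = D'.theta from RingHom.congr_fun this a
  refine C.P_hom_ext _ _ (fun r => ?_) fun i b => ?_
  · rw [RingHom.comp_apply, D.theta_algebraMap, D'.theta_algebraMap]
    exact appLE_comp_apply k D.b D.hb hW r hb _
  · rw [RingHom.comp_apply, D.theta_single, D'.theta_single]
    have e : D'.W ≤ D'.p i ⁻¹ᵁ C.U (D.c i) := by rw [← hc i]; exact D'.hc i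
    exact (appLE_comp_apply k (D.p i) (D.hc i) hW _ (hp i) e).trans
      (appLE_index_congr b (hc i).symm rfl e _)

/-- The slot with permuted factors. -/
theorem Slot.theta_perm (σ : Equiv.Perm (Fin d)) (D' : C.Slot T d)
    (hb : D'.b = D.b) (hp : ∀ i, D'.p i = D.p (σ i)) (hc : ∀ i, D'.c i = D.c (σ i))
    (hW : D'.W ≤ D.W) (a : C.P d) :
    D'.theta a =
      (T.presheaf.map (homOfLE hW).op).hom
        (D.theta (SymTen.perm Γ(S, C.V) C.B d σ a)) := by
  suffices D'.theta = ((T.presheaf.map (homOfLE hW).op).hom.comp D.theta).comp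
      (SymTen.perm Γ(S, C.V) C.B d σ).toRingHom from RingHom.congr_fun this a
  refine C.P_hom_ext _ _ (fun r => ?_) fun i b => ?_
  · simp only [RingHom.comp_apply, AlgHom.toRingHom_eq_coe, RingHom.coe_coe, AlgHom.commutes,
      D.theta_algebraMap, D'.theta_algebraMap]
    rw [← CommRingCat.comp_apply, Scheme.Hom.appLE_map]
    simp only [hb]
  · have hsingle : SymTen.perm Γ(S, C.V) C.B d σ (C.single i b) = C.single (σ i) b :=
      C.perm_single σ i b
    simp only [RingHom.comp_apply, AlgHom.toRingHom_eq_coe, RingHom.coe_coe, hsingle,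
      D.theta_single, D'.theta_single]
    rw [← CommRingCat.comp_apply, Scheme.Hom.appLE_map]
    exact appLE_index_congr b (hc i) (hp i) _ _

variable (C)

/-- The chart pulled back along an affine morphism. -/
noncomputable abbrev comap {Z : Scheme.{u}} (i : Z ⟶ X) [IsAffineHom i] (fZ : Z ⟶ S)
    (w : i ≫ f = fZ) : Chart fZ where
  V := C.V
  hV := C.hV
  J := C.J
  fin := C.fin
  U j := i ⁻¹ᵁ C.U j
  hU j := (C.hU j).preimage i
  le j := by
    subst w
    exact i.preimage_mono (C.le j)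

variable {Z : Scheme.{u}} (i : Z ⟶ X) [IsAffineHom i] (fZ : Z ⟶ S) (w : i ≫ f = fZ)

noncomputable instance algComap : Algebra Γ(S, C.V) (C.comap i fZ w).B := (C.comap i fZ w).algB

/-- Pullback of functions to the comap chart. -/
noncomputable def pull : C.B →ₐ[Γ(S, C.V)] (C.comap i fZ w).B :=
  { toRingHom := Pi.ringHom fun j => (i.app (C.U j)).hom.comp (Pi.evalRingHom _ j)
    commutes' := fun r => by
      funext j
      show (i.app (C.U j)).hom ((f.appLE C.V (C.U j) (C.le j)).hom r) =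
        (fZ.appLE C.V (i ⁻¹ᵁ C.U j) ((C.comap i fZ w).le j)).hom r
      rw [Scheme.Hom.app_eq_appLE]
      exact appLE_comp_apply i f _ _ r w _ }

theorem pull_apply (a : C.B) (j : C.J) : C.pull i fZ w a j = (i.app (C.U j)).hom (a j) := rfl

/-- A slot of the pulled back chart, seen in the chart. -/
theorem theta_pull {T : Scheme.{u}} (D : C.Slot T d) (D' : (C.comap i fZ w).Slot T d)
    (hb : D'.b = D.b) (hp : ∀ m, D'.p m ≫ i = D.p m) (hc : ∀ m, D'.c m = D.c m) (hW : D'.W ≤ D.W)
    (a : C.P d) :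
    D'.theta (SymTen.tmap Γ(S, C.V) d (C.pull i fZ w) a) =
      (T.presheaf.map (homOfLE hW).op).hom (D.theta a) := by
  suffices D'.theta.comp (SymTen.tmap Γ(S, C.V) d (C.pull i fZ w)).toRingHom =
      (T.presheaf.map (homOfLE hW).op).hom.comp D.theta from RingHom.congr_fun this a
  refine C.P_hom_ext _ _ (fun r => ?_) fun m b => ?_
  · simp only [RingHom.comp_apply, AlgHom.toRingHom_eq_coe, RingHom.coe_coe, AlgHom.commutes,
      D.theta_algebraMap]
    refine (D'.theta_algebraMap r).trans ?_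
    rw [← CommRingCat.comp_apply, Scheme.Hom.appLE_map]
    simp only [hb]
  · have hsingle : SymTen.tmap Γ(S, C.V) d (C.pull i fZ w) (C.single m b) =
        (C.comap i fZ w).single m (C.pull i fZ w b) := by
      show SymTen.tmap Γ(S, C.V) d (C.pull i fZ w) (PiTensorProduct.tprod _ (Pi.mulSingle m b)) =
        PiTensorProduct.tprod _ (Pi.mulSingle m _)
      rw [SymTen.tmap_tprod]
      exact congrArg _ (funext fun k => Pi.apply_mulSingle (fun _ => C.pull i fZ w)
        (fun _ => map_one _) m b k)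
    simp only [RingHom.comp_apply, AlgHom.toRingHom_eq_coe, RingHom.coe_coe, hsingle,
      D.theta_single]
    refine ((D'.theta_single m _).trans ?_)
    rw [← CommRingCat.comp_apply, Scheme.Hom.appLE_map, C.pull_apply, Scheme.Hom.app_eq_appLE]
    have e : D'.W ≤ D.p m ⁻¹ᵁ C.U (D'.c m) := by rw [← hp m]; exact D'.hc m
    exact (appLE_comp_apply (D'.p m) i _ _ _ (hp m) e).trans
      (appLE_index_congr b (hc m) rfl e _)

theorem pull_surjective [IsClosedImmersion i] : Function.Surjective (C.pull i fZ w) := by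
  intro b
  choose a ha using fun j => i.app_surjective (C.U j) (C.hU j) (b j)
  exact ⟨a, funext ha⟩

end Chart

end Groth.Agent.ZBSym
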