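import Groth.Agent.PolLib.FlatTS
import Mathlib.RingTheory.TensorProduct.Maps
import Mathlib.RingTheory.TensorProduct.Finite

/-!
# Invariants of tensor powers after a change of the base ring
-/

universe u

open scoped TensorProduct

namespace Groth.Agent.ZBSym

open PolLib

variable {R : Type u} [CommRing R] {R' : Type u} [CommRing R'] [Algebra R R'] {d : ℕ}

section BC

variable (R : Type u) [CommRing R] (R' : Type u) [CommRing R'] [Algebra R R'] (B : Type u)
  [CommRing B] [Algebra R B] (d : ℕ)

/-- A permutation of the factors after a change of the base ring. -/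
noncomputable abbrev permQ {d : ℕ} (σ : Equiv.Perm (Fin d)) :
    R' ⊗[R] (⨂[R] _ : Fin d, B) →ₐ[R'] R' ⊗[R] (⨂[R] _ : Fin d, B) :=
  Algebra.TensorProduct.map (AlgHom.id R' R') (SymTen.perm R B d σ)

/-- Tensor powers commute with change of the base ring: one direction. -/
noncomputable def toBC :
    R' ⊗[R] (⨂[R] _ : Fin d, B) →ₐ[R'] ⨂[R'] _ : Fin d, R' ⊗[R] B :=
  Algebra.TensorProduct.lift (Algebra.ofId R' _)
    (PiTensorProduct.liftAlgHom
      (((PiTensorProduct.tprod R').restrictScalars R).compLinearMap fun _ : Fin d =>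
        TensorProduct.mk R R' B 1)
      (by simp [PiTensorProduct.one_def, Algebra.TensorProduct.one_def]; rfl)
      (fun x y => by
        simp only [MultilinearMap.compLinearMap_apply, MultilinearMap.coe_restrictScalars,
          TensorProduct.mk_apply, Pi.mul_apply]
        rw [PiTensorProduct.tprod_mul_tprod]
        refine congrArg _ (funext fun i => ?_)
        simp [Algebra.TensorProduct.tmul_mul_tmul]))
    fun _ _ => Commute.all _ _

variable {B d}

theorem toBC_tmul_tprod (r : R') (b : Fin d → B) :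
    toBC R R' B d (r ⊗ₜ[R] PiTensorProduct.tprod R b) =
      r • PiTensorProduct.tprod R' fun i => (1 : R') ⊗ₜ[R] b i := by
  simp [toBC]
  exact (Algebra.smul_def _ _).symm

/-- Tensor powers commute with change of the base ring: the other direction. -/
noncomputable def ofBC (B : Type u) [CommRing B] [Algebra R B] (d : ℕ) :
    (⨂[R'] _ : Fin d, R' ⊗[R] B) →ₐ[R'] R' ⊗[R] (⨂[R] _ : Fin d, B) :=
  PiTensorProduct.liftAlgHom
    ((MultilinearMap.mkPiAlgebra R' (Fin d) _).compLinearMap fun i : Fin d =>
      (Algebra.TensorProduct.map (AlgHom.id R' R')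
        (PiTensorProduct.singleAlgHom (R := R) (A := fun _ : Fin d => B) i)).toLinearMap)
    (by simp only [MultilinearMap.compLinearMap_apply, MultilinearMap.mkPiAlgebra_apply,
      AlgHom.toLinearMap_apply, Pi.one_apply, map_one, Finset.prod_const_one])
    (fun x y => by simp only [MultilinearMap.compLinearMap_apply, MultilinearMap.mkPiAlgebra_apply,
      AlgHom.toLinearMap_apply, Pi.mul_apply, map_mul, Finset.prod_mul_distrib])

theorem ofBC_toBC (z : R' ⊗[R] (⨂[R] _ : Fin d, B)) : ofBC R R' B d (toBC R R' B d z) = z := by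
  suffices (ofBC R R' B d).comp (toBC R R' B d) = AlgHom.id R' _ from
    DFunLike.congr_fun this z
  refine Algebra.TensorProduct.ext' fun r t => ?_
  induction t using PiTensorProduct.induction_on with
  | add a b ha hb => simp only [TensorProduct.tmul_add, map_add, ha, hb]
  | smul_tprod c b =>
    rw [TensorProduct.tmul_smul, TensorProduct.smul_tmul']
    generalize c • r = r
    simp only [AlgHom.comp_apply, AlgHom.id_apply, toBC_tmul_tprod, map_smul, ofBC,
      PiTensorProduct.liftAlgHom_apply, PiTensorProduct.lift.tprod,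
      MultilinearMap.compLinearMap_apply, MultilinearMap.mkPiAlgebra_apply,
      AlgHom.toLinearMap_apply, Algebra.TensorProduct.map_tmul, map_one]
    rw [show (∏ i : Fin d, (1 : R') ⊗ₜ[R]
        PiTensorProduct.singleAlgHom (R := R) (A := fun _ : Fin d => B) i (b i)) =
        (1 : R') ⊗ₜ[R] ∏ i : Fin d,
          PiTensorProduct.singleAlgHom (R := R) (A := fun _ : Fin d => B) i (b i) from
      (map_prod (Algebra.TensorProduct.includeRight : _ →ₐ[R] R' ⊗[R] _) _ _).symm]
    rw [TensorProduct.smul_tmul', smul_eq_mul, mul_one]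
    congr 1
    simp only [PiTensorProduct.singleAlgHom_apply, MonoidHom.mulSingle_apply]
    rw [← PiTensorProduct.tprod_prod]
    exact congrArg _ (Finset.univ_prod_mulSingle b)

theorem toBC_permQ (σ : Equiv.Perm (Fin d)) (z : R' ⊗[R] (⨂[R] _ : Fin d, B)) :
    toBC R R' B d (permQ R R' B σ z) =
      PiTensorProduct.reindex R' (fun _ : Fin d => R' ⊗[R] B) σ (toBC R R' B d z) := by
  induction z using TensorProduct.induction_on with
  | zero => simp
  | add a b ha hb => simp only [map_add, ha, hb]
  | tmul r t =>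
    induction t using PiTensorProduct.induction_on with
    | add a b ha hb => simp only [TensorProduct.tmul_add, map_add, ha, hb]
    | smul_tprod c b =>
      rw [TensorProduct.tmul_smul, TensorProduct.smul_tmul']
      simp only [Algebra.TensorProduct.map_tmul, AlgHom.id_apply, SymTen.perm_tprod,
        toBC_tmul_tprod, map_smul, PiTensorProduct.reindex_tprod]

end BC

section Span

variable {B B₂ : Type u} [CommRing B] [Algebra R B] [CommRing B₂] [Algebra R B₂]

/-- Invariants of a tensor power after a flat change are spanned by the symmetric tensors. -/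
theorem mem_span_of_invariant (h : B →ₐ[R] B₂) (hh : Function.Surjective h)
    [Module.Flat R' (R' ⊗[R] B₂)] (z : R' ⊗[R] (⨂[R] _ : Fin d, B₂))
    (hz : ∀ σ, permQ R R' B₂ σ z = z) :
    z ∈ Submodule.span R' (Set.range fun u : SymTen.TS R B d =>
      (1 : R') ⊗ₜ[R] SymTen.tmap R d h ((SymTen.TS R B d).val u)) := by
  classical
  obtain ⟨n, g, t, ht, hg⟩ := exists_invariant_lift (toBC R R' B₂ d z) fun σ => by
    rw [← toBC_permQ, hz]
  -- generators of `R' ⊗ B₂` coming from `B`
  have hgen : ∀ w : R' ⊗[R] B₂, ∃ (m : ℕ) (r : Fin m → R') (β : Fin m → B),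
      w = ∑ j, r j • ((1 : R') ⊗ₜ[R] h (β j)) := by
    intro w
    obtain ⟨S, rfl⟩ := TensorProduct.exists_finset w
    choose b hb using fun p : R' × B₂ => hh p.2
    refine ⟨S.card, fun j => (S.equivFin.symm j).1.1, fun j => b (S.equivFin.symm j).1, ?_⟩
    rw [S.equivFin.symm.sum_comp (fun p => p.1.1 • ((1 : R') ⊗ₜ[R] h (b p.1))),
      Finset.sum_coe_sort S (fun p => p.1 • ((1 : R') ⊗ₜ[R] h (b p)))]
    exact Finset.sum_congr rfl fun p _ => by rw [hb, TensorProduct.smul_tmul', smul_eq_mul, mul_one]
  choose m r β hβ using fun k => hgen (g (Pi.basisFun R' (Fin n) k))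
  let e := Fintype.equivFin (Σ k, Fin (m k))
  let N := Fintype.card (Σ k, Fin (m k))
  let g' : (Fin N → R') →ₗ[R'] R' ⊗[R] B₂ :=
    (Pi.basisFun R' _).constr R' fun j => (1 : R') ⊗ₜ[R] h (β (e.symm j).1 (e.symm j).2)
  let k' : (Fin n → R') →ₗ[R'] (Fin N → R') :=
    (Pi.basisFun R' _).constr R' fun k => ∑ i, r k i • Pi.basisFun R' (Fin N) (e ⟨k, i⟩)
  have hk' : g'.comp k' = g := (Pi.basisFun R' _).ext fun k => by
    simp only [k', g', LinearMap.comp_apply, Module.Basis.constr_basis, map_sum, map_smul, hβ k]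
    refine Finset.sum_congr rfl fun i _ => ?_
    rw [Equiv.symm_apply_apply]
  have hz' : toBC R R' B₂ d z = tp d g' (tp d k' t) := by
    rw [← hg, ← LinearMap.comp_apply, ← tp_comp, hk']
  have : Finite (Orb (Fin N) d) := Finite.of_surjective cls cls_surjective
  let _ := Fintype.ofFinite (Orb (Fin N) d)
  rw [eq_sum_orb (tp d k' t) (fun σ => by rw [← tp_reindex, ht]), map_sum] at hz'
  let u : Orb (Fin N) d → SymTen.TS R B d := fun q =>
    ⟨∑ c ∈ fib q, PiTensorProduct.tprod R fun i => β (e.symm (c i)).1 (e.symm (c i)).2, fun σ => by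
      rw [map_sum]
      simp only [PiTensorProduct.reindex_tprod]
      refine Finset.sum_nbij' (fun c => c ∘ σ.symm) (fun c => c ∘ σ) ?_ ?_ ?_ ?_ ?_
      · intro c hc
        exact mem_fib.mpr ((cls_comp c σ.symm).trans (mem_fib.mp hc))
      · intro c hc
        exact mem_fib.mpr ((cls_comp c σ).trans (mem_fib.mp hc))
      · intro c _
        funext i; simp
      · intro c _
        funext i; simp
      · intro c _; rfl⟩
  rw [← ofBC_toBC R R' z, hz', map_sum]
  refine Submodule.sum_mem _ fun q _ => ?_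
  rw [map_smul, map_smul]
  refine Submodule.smul_mem _ _ (Submodule.subset_span ⟨u q, ?_⟩)
  have hu : toBC R R' B₂ d ((1 : R') ⊗ₜ[R] SymTen.tmap R d h ((SymTen.TS R B d).val (u q))) =
      tp d g' ((SymTen.TS R' (Fin N → R') d).val (orb (Pi.basisFun R' (Fin N)) q)) := by
    show toBC R R' B₂ d ((1 : R') ⊗ₜ[R] SymTen.tmap R d h
      (∑ c ∈ fib q, PiTensorProduct.tprod R fun i => β (e.symm (c i)).1 (e.symm (c i)).2)) = _
    rw [val_orb]
    simp only [map_sum, TensorProduct.tmul_sum, SymTen.tmap_tprod, toBC_tmul_tprod, one_smul,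
      beta_apply, tp_tprod, g', Module.Basis.constr_basis]
  rw [← hu, ofBC_toBC]

/-- Symmetric tensors of a flat algebra form a pure submodule. -/
theorem lTensor_val_injective [Module.Flat R B] (M : Type u) [AddCommGroup M] [Module R M] :
    Function.Injective ((SymTen.TS R B d).val.toLinearMap.lTensor M) := by
  classical
  refine (injective_iff_map_eq_zero _).2 fun x hx => ?_
  obtain ⟨S, rfl⟩ := TensorProduct.exists_finset x
  let ι := S.equivFin
  obtain ⟨n, g, t, ht, hgt⟩ := exists_invariant_lift_family (M := B)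
    (fun a => (SymTen.TS R B d).val (ι.symm a).1.2) fun a σ => (ι.symm a).1.2.2 σ
  obtain ⟨m, h, g', hg', hh⟩ := kill d M n g (∑ a, (ι.symm a).1.1 ⊗ₜ[R] t a) (by
    rw [map_sum]
    simp only [LinearMap.lTensor_tmul, hgt]
    rw [map_sum] at hx
    refine Eq.trans ?_ hx
    simp only [LinearMap.lTensor_tmul, AlgHom.toLinearMap_apply]
    rw [ι.symm.sum_comp (fun p => p.1.1 ⊗ₜ[R] (SymTen.TS R B d).val p.1.2),
      Finset.sum_coe_sort S (fun p => p.1 ⊗ₜ[R] (SymTen.TS R B d).val p.2)])
  let b := Pi.basisFun R (Fin m)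
  let T := SymTen.TS R (Fin m → R) d
  let push : T →ₗ[R] SymTen.TS R B d :=
    { toFun := fun y => ⟨tp d g' (T.val y), fun σ => by rw [← tp_reindex]; exact congrArg _ (y.2 σ)⟩
      map_add' := fun y y' => Subtype.ext (by simp)
      map_smul' := fun a y => Subtype.ext (by simp) }
  let t' : Fin S.card → T := fun a => ⟨tp d h (t a), fun σ => by rw [← tp_reindex, ht]⟩
  have h1 : ∀ a, push (t' a) = (ι.symm a).1.2 := fun a => Subtype.ext (by
    show tp d g' (tp d h (t a)) = (SymTen.TS R B d).val (ι.symm a).1.2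
    rw [← LinearMap.comp_apply, ← tp_comp, hg', hgt])
  have hy : (∑ a, (ι.symm a).1.1 ⊗ₜ[R] t' a) = 0 := by
    have h2 := congrArg ((retr b).lTensor M) hh
    rw [map_zero] at h2
    refine Eq.trans ?_ h2
    simp only [map_sum, LinearMap.lTensor_tmul]
    exact Finset.sum_congr rfl fun a _ => congrArg _ (retr_val b (t' a)).symm
  have h3 := congrArg (push.lTensor M) hy
  simp only [map_sum, LinearMap.lTensor_tmul, h1, map_zero] at h3
  refine Eq.trans ?_ h3
  rw [ι.symm.sum_comp (fun p => p.1.1 ⊗ₜ[R] p.1.2), Finset.sum_coe_sort S (fun p => p.1 ⊗ₜ[R] p.2)]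

end Span

end Groth.Agent.ZBSym
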