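import Groth.Agent.SGA1Q.BaseChange

/-!
# Quotients commute with base change when the order of the group is invertible
-/

set_option autoImplicit false
universe u

open CategoryTheory CategoryTheory.Limits AlgebraicGeometry TopologicalSpace
open scoped TensorProduct

namespace Groth.Agent.ZBSym

open SGA1Q

theorem invariants_baseChange_of_isUnit {G : Type u} [Group G] [Finite G] {B A B' A' : Type u}
    [CommRing B] [CommRing A] [CommRing B'] [CommRing A'] [Algebra B A] [Algebra B B']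
    [Algebra A A'] [Algebra B' A'] [Algebra B A'] [IsScalarTower B B' A'] [IsScalarTower B A A']
    [Algebra.IsPushout B B' A A']
    (σ : G → A →ₐ[B] A) (τ : G → A' →ₐ[B'] A') (hn : IsUnit ((Nat.card G : ℕ) : B'))
    (hστ : ∀ g a, τ g (algebraMap A A' a) = algebraMap A A' (σ g a))
    (hinj : Function.Injective (algebraMap B A))
    (hinv : ∀ a, (∀ g, σ g a = a) → a ∈ Set.range (algebraMap B A))
    (hσ : ∀ g h a, σ g (σ h a) = σ (h * g) a) (hfix : ∀ g b, σ g (algebraMap B A b) = algebraMap B A b) :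
    Function.Injective (algebraMap B' A') ∧
      ∀ a', (∀ g, τ g a' = a') → a' ∈ Set.range (algebraMap B' A') := by
  classical
  cases nonempty_fintype G
  let e : B' ⊗[B] A ≃ₐ[B'] A' := Algebra.IsPushout.equiv B B' A A'
  have he : ∀ (b : B') (a : A), e (b ⊗ₜ[B] a) = algebraMap B' A' b * algebraMap A A' a := by
    intro b a
    simp [e, Algebra.IsPushout.equiv_tmul]
  let ι : B →ₗ[B] A := Algebra.linearMap B A
  let T : A →ₗ[B] A := ∑ g, (σ g).toLinearMap
  have hT : ∀ a, T a ∈ Set.range ι := fun a => hinv _ fun g => by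
    simp only [T, LinearMap.sum_apply, AlgHom.toLinearMap_apply, map_sum, hσ]
    exact Fintype.sum_equiv (Equiv.mulRight g) _ _ fun h => rfl
  choose p hp using hT
  let pl : A →ₗ[B] B :=
    { toFun := p
      map_add' := fun x y => hinj (by
        show ι _ = ι _
        rw [hp, map_add, map_add, hp, hp])
      map_smul' := fun c x => hinj (by
        show ι _ = ι _
        rw [hp, map_smul, RingHom.id_apply, map_smul, hp]) }
  have hpl : pl.comp ι = (Nat.card G) • LinearMap.id := LinearMap.ext fun b => hinj (by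
    show ι (p (ι b)) = ι _
    rw [hp]
    simp [T, ι, hfix, Nat.card_eq_fintype_card])
  have hιp : ι.comp pl = T := LinearMap.ext hp
  have hι : ∀ b : B', e (ι.lTensor B' ((TensorProduct.rid B B').symm b)) = algebraMap B' A' b := by
    intro b
    rw [TensorProduct.rid_symm_apply, LinearMap.lTensor_tmul, he]
    show algebraMap B' A' b * algebraMap A A' (algebraMap B A 1) = _
    rw [map_one, map_one, mul_one]
  have hret : ∀ b : B', TensorProduct.rid B B' (pl.lTensor B' (ι.lTensor B'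
      ((TensorProduct.rid B B').symm b))) = (Nat.card G : B') * b := fun b => by
    rw [← LinearMap.comp_apply, ← LinearMap.lTensor_comp, hpl]
    simp [Nat.cast_smul_eq_nsmul]
  refine ⟨fun b b' h => ?_, fun a' ha' => ?_⟩
  · rw [← hι, ← hι] at h
    exact hn.mul_left_cancel ((hret b).symm.trans
      ((congrArg (fun z => TensorProduct.rid B B' (pl.lTensor B' z)) (e.injective h)).trans (hret b')))
  · obtain ⟨z, rfl⟩ := e.surjective a'
    have hτ : ∀ g z, τ g (e z) = e ((σ g).toLinearMap.lTensor B' z) := by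
      intro g z
      induction z using TensorProduct.induction_on with
      | zero => simp
      | tmul b a => rw [he, LinearMap.lTensor_tmul, he, map_mul, AlgHom.commutes, hστ]; rfl
      | add x y hx hy => simp only [map_add, hx, hy]
    have hTz : e (T.lTensor B' z) = (Nat.card G : A') * e z := by
      have h1 : T.lTensor B' z = ∑ g, (σ g).toLinearMap.lTensor B' z := by
        simp only [T, ← LinearMap.coe_lTensorHom, map_sum, LinearMap.sum_apply]
      rw [h1, map_sum]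
      simp only [← hτ, ha', Finset.sum_const, Finset.card_univ, Nat.card_eq_fintype_card,
        nsmul_eq_mul]
    let y := TensorProduct.rid B B' (pl.lTensor B' z)
    have hy : algebraMap B' A' y = (Nat.card G : A') * e z := by
      rw [← hι, LinearEquiv.symm_apply_apply, ← LinearMap.comp_apply, ← LinearMap.lTensor_comp, hιp,
        hTz]
    obtain ⟨u, hu⟩ := hn
    refine ⟨(↑u⁻¹ : B') * y, ?_⟩
    rw [map_mul, hy, ← mul_assoc, ← map_natCast (algebraMap B' A'), ← map_mul, ← hu, Units.inv_mul,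
      map_one, one_mul]

variable {X Y X' Y' : Scheme.{u}} {G : Type u} [Group G] [Finite G]

theorem isQuot_baseChange_of_isUnit {ρ : G →* Aut X} {p : X ⟶ Y} (hp : SGA1.IsQuot ρ p) (qY : Y' ⟶ Y)
    (hn : IsUnit ((Nat.card G : ℕ) : Γ(Y', ⊤))) (pX : X' ⟶ X) (p' : X' ⟶ Y') (hX : IsPullback pX p' p qY) (ρ' : G →* Aut X')
    (hρ₁ : ∀ g : G, (ρ' g).hom ≫ pX = pX ≫ (ρ g).hom) (hρ₂ : ∀ g : G, (ρ' g).hom ≫ p' = p') :
    SGA1.IsQuot ρ' p' := by
  have hp' : IsAffineHom p' := MorphismProperty.of_isPullback hX hp.affine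
  refine isQuot_of_affine_cover hp' hρ₂ fun y' => ?_
  obtain ⟨U, hU, hyU, -⟩ := exists_isAffineOpen_mem_and_subset (x := qY y') (U := ⊤) trivial
  obtain ⟨U', hU', hyU', hle⟩ := exists_isAffineOpen_mem_and_subset (x := y') (U := qY ⁻¹ᵁ U) hyU
  haveI := hp.affine
  have hUX : IsAffineOpen (p ⁻¹ᵁ U) := hU.preimage p
  have hle' : p' ⁻¹ᵁ U' ≤ pX ⁻¹ᵁ (p ⁻¹ᵁ U) := by
    rw [← Scheme.Hom.comp_preimage, hX.w, Scheme.Hom.comp_preimage]
    exact p'.preimage_mono hle
  have hUY : p' ⁻¹ᵁ U' = pX ⁻¹ᵁ (p ⁻¹ᵁ U) ⊓ p' ⁻¹ᵁ U' := (inf_eq_right.2 hle').symm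
  have hpo := (isIso_pushoutSection_iff hX (US := U) (UT := U') (UX := p ⁻¹ᵁ U) hle le_rfl hUY).1
    (isIso_pushoutSection_of_isAffineOpen hX hle le_rfl hUY hU hU' hUX)
  refine ⟨U', hU', hyU', ?_⟩
  letI algA := (p.appLE U (p ⁻¹ᵁ U) le_rfl).hom.toAlgebra
  letI algB' := (qY.appLE U U' hle).hom.toAlgebra
  letI algA' := (pX.appLE (p ⁻¹ᵁ U) (p' ⁻¹ᵁ U') hle').hom.toAlgebra
  letI algB'A' := (p'.appLE U' (p' ⁻¹ᵁ U') le_rfl).hom.toAlgebra
  letI algBA' := ((pX.appLE (p ⁻¹ᵁ U) (p' ⁻¹ᵁ U') hle').hom.comp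
    (p.appLE U (p ⁻¹ᵁ U) le_rfl).hom).toAlgebra
  haveI : IsScalarTower Γ(Y, U) Γ(X, p ⁻¹ᵁ U) Γ(X', p' ⁻¹ᵁ U') :=
    IsScalarTower.of_algebraMap_eq' rfl
  haveI : IsScalarTower Γ(Y, U) Γ(Y', U') Γ(X', p' ⁻¹ᵁ U') :=
    IsScalarTower.of_algebraMap_eq' (congrArg CommRingCat.Hom.hom hpo.w)
  haveI : Algebra.IsPushout Γ(Y, U) Γ(Y', U') Γ(X, p ⁻¹ᵁ U) Γ(X', p' ⁻¹ᵁ U') :=
    CommRingCat.isPushout_iff_isPushout.1 hpo.flip
  have hn' : IsUnit ((Nat.card G : ℕ) : Γ(Y', U')) := by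
    simpa using hn.map (Y'.presheaf.map (homOfLE (le_top : U' ≤ ⊤)).op).hom
  let σ : G → Γ(X, p ⁻¹ᵁ U) →ₐ[Γ(Y, U)] Γ(X, p ⁻¹ᵁ U) := fun g =>
    ⟨((ρ g).hom.appLE (p ⁻¹ᵁ U) (p ⁻¹ᵁ U) (SGA1.preimage_le_of_inv ρ p hp.inv g U)).hom,
      fun t => by
        have := appLE_app_of_inv hp.inv U g t
        rw [Scheme.Hom.app_eq_appLE] at this
        exact this⟩
  let τ : G → Γ(X', p' ⁻¹ᵁ U') →ₐ[Γ(Y', U')] Γ(X', p' ⁻¹ᵁ U') := fun g =>
    ⟨((ρ' g).hom.appLE (p' ⁻¹ᵁ U') (p' ⁻¹ᵁ U') (SGA1.preimage_le_of_inv ρ' p' hρ₂ g U')).hom,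
      fun t => by
        have := appLE_app_of_inv hρ₂ U' g t
        rw [Scheme.Hom.app_eq_appLE] at this
        exact this⟩
  have happ : p.app U = p.appLE U (p ⁻¹ᵁ U) le_rfl := Scheme.Hom.app_eq_appLE p
  have happ' : p'.app U' = p'.appLE U' (p' ⁻¹ᵁ U') le_rfl := Scheme.Hom.app_eq_appLE p'
  have key := invariants_baseChange_of_isUnit σ τ hn' ?_ ?_ ?_ ?_ ?_
  · rw [happ']
    exact key
  · intro g a
    have : pX.appLE (p ⁻¹ᵁ U) (p' ⁻¹ᵁ U') hle' ≫
        (ρ' g).hom.appLE (p' ⁻¹ᵁ U') (p' ⁻¹ᵁ U') (SGA1.preimage_le_of_inv ρ' p' hρ₂ g U') =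
        (ρ g).hom.appLE (p ⁻¹ᵁ U) (p ⁻¹ᵁ U) (SGA1.preimage_le_of_inv ρ p hp.inv g U) ≫
          pX.appLE (p ⁻¹ᵁ U) (p' ⁻¹ᵁ U') hle' := by
      rw [Scheme.Hom.appLE_comp_appLE, Scheme.Hom.appLE_comp_appLE]
      exact appLE_congr_hom (hρ₁ g) _ _
    exact congr(($this).hom a)
  · have := hp.injective U
    rw [happ] at this
    exact this
  · intro a ha
    have := (hp.range_iff U a).2 ha
    rw [happ] at this
    exact this
  · intro g h a
    show ((ρ g).hom.appLE _ _ _).hom (((ρ h).hom.appLE _ _ _).hom a) = ((ρ (h * g)).hom.appLE _ _ _).hom a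
    rw [← RingHom.comp_apply, ← CommRingCat.hom_comp, Scheme.Hom.appLE_comp_appLE]
    exact congr(($(appLE_congr_hom (hom_mul ρ h g).symm _ _)).hom a)
  · intro g b
    exact (σ g).commutes b

end Groth.Agent.ZBSym
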