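import Groth.Agent.ZBSym.Flat
import Groth.Agent.ZBSym.UnitBC
import Groth.Agent.SGA1Q.Residue
import Mathlib.AlgebraicGeometry.ResidueField

/-!
# From fractions to surjectivity of comparison maps
-/

set_option autoImplicit false
universe u

open CategoryTheory CategoryTheory.Limits AlgebraicGeometry TopologicalSpace

namespace Groth.Agent.ZBSym

theorem appLE_fromSpecResidueField (X : Scheme.{u}) (x : X) (U : X.Opens) (hx : x ∈ U)
    (e : (⊤ : (Spec (X.residueField x)).Opens) ≤ X.fromSpecResidueField x ⁻¹ᵁ U) :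
    (X.fromSpecResidueField x).appLE U ⊤ e ≫ (Scheme.ΓSpecIso (X.residueField x)).hom =
      X.evaluation U x hx := by
  have e1 : (⊤ : (Spec (X.presheaf.stalk x)).Opens) ≤ X.fromSpecStalk x ⁻¹ᵁ U := by
    intro p _
    exact ((Scheme.range_fromSpecStalk (X := X) (x := x)).le ⟨p, rfl⟩).mem_open U.2 hx
  have h1 : (X.fromSpecStalk x).appLE U ⊤ e1 =
      X.presheaf.germ U x hx ≫ (Scheme.ΓSpecIso (X.presheaf.stalk x)).inv := by
    rw [Scheme.Hom.appLE, Scheme.fromSpecStalk_app hx, Category.assoc, Category.assoc,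
      ← Functor.map_comp]
    exact congrArg (_ ≫ ·) ((congrArg (_ ≫ ·) ((Spec (X.presheaf.stalk x)).presheaf.map_id _)).trans
      (Category.comp_id _))
  have h2 : (X.fromSpecResidueField x).appLE U ⊤ e =
      (X.fromSpecStalk x).appLE U ⊤ e1 ≫ (Spec.map (X.residue x)).appTop := by
    have : (Spec.map (X.residue x)).appTop = (Spec.map (X.residue x)).appLE ⊤ ⊤ le_top :=
      (Scheme.Hom.appLE_eq_app _).symm
    rw [this, Scheme.Hom.appLE_comp_appLE]
    rfl
  rw [h2, h1, Category.assoc, Category.assoc, Scheme.ΓSpecIso_naturality, Iso.inv_hom_id_assoc]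
  rfl

theorem isClosedImmersion_of_app_surjective {X Y : Scheme.{u}} (m : X ⟶ Y) [IsAffineHom m]
    (h : ∀ y : Y, ∃ U : Y.Opens, IsAffineOpen U ∧ y ∈ U ∧ Function.Surjective (m.app U).hom) :
    IsClosedImmersion m := by
  choose U hU hyU hs using h
  refine IsZariskiLocalAtTarget.of_iSup_eq_top (P := @IsClosedImmersion) U
    (top_unique fun y _ => Opens.mem_iSup.2 ⟨y, hyU y⟩) fun y => ?_
  haveI : IsAffine (U y).toScheme := hU y
  haveI : IsAffine (m ⁻¹ᵁ U y).toScheme := (hU y).preimage m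
  refine IsClosedImmersion.of_surjective_of_isAffine _ ?_
  have e : (m ∣_ U y).appTop = (U y).topIso.hom ≫ m.app (U y) ≫ (m ⁻¹ᵁ U y).topIso.inv := by
    simp only [morphismRestrict_appTop, Scheme.Opens.topIso_hom, Scheme.Opens.topIso_inv]
    simp only [Scheme.Hom.app_eq_appLE, Scheme.Hom.appLE_map]
    erw [Scheme.Hom.appLE_map, Scheme.Hom.map_appLE]
    rfl
  rw [e]
  exact ((ConcreteCategory.bijective_of_isIso (m ⁻¹ᵁ U y).topIso.inv).2.comp
    (hs y)).comp (ConcreteCategory.bijective_of_isIso (U y).topIso.hom).2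

/-- A section of a quotient pulled back to a function is a fraction of functions on the target,
near every point; hence the target surjects. -/
theorem app_surjective_of_local {T' Y' Y2 : Scheme.{u}} (r : T' ⟶ Y') (m : Y' ⟶ Y2)
    {U : Y2.Opens} (hU : IsAffineOpen U) (hinj : Function.Injective (r.app (m ⁻¹ᵁ U)).hom)
    [Surjective (r ≫ m)]
    (h : ∀ t' : T', ∀ ht' : (r ≫ m) t' ∈ U, ∀ t : Γ(Y', m ⁻¹ᵁ U), ∃ a b : Γ(Y2, U),
      t' ∈ T'.basicOpen (((r ≫ m).app U).hom a) ∧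
        (r.app (m ⁻¹ᵁ U)).hom t * (r.app (m ⁻¹ᵁ U)).hom ((m.app U).hom a) =
          (r.app (m ⁻¹ᵁ U)).hom ((m.app U).hom b)) :
    Function.Surjective (m.app U).hom := by
  intro t
  let J : Ideal Γ(Y2, U) :=
    { carrier := {a | ∃ b, t * (m.app U).hom a = (m.app U).hom b}
      add_mem' := by
        rintro a a' ⟨b, hb⟩ ⟨b', hb'⟩
        exact ⟨b + b', by rw [map_add, mul_add, hb, hb', map_add]⟩
      zero_mem' := ⟨0, by simp⟩
      smul_mem' := by
        rintro c a ⟨b, hb⟩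
        exact ⟨c * b, by rw [smul_eq_mul, map_mul, map_mul, mul_left_comm, hb]⟩ }
  suffices J = ⊤ by
    obtain ⟨b, hb⟩ := J.eq_top_iff_one.1 this
    exact ⟨b, by rw [← hb, map_one, mul_one]⟩
  by_contra hne
  obtain ⟨p, hp, hJp⟩ := Ideal.exists_le_maximal J hne
  let v : U := ⟨hU.fromSpec ⟨p, hp.isPrime⟩, hU.range_fromSpec.le ⟨_, rfl⟩⟩
  obtain ⟨t', ht'⟩ := (r ≫ m).surjective v.1
  obtain ⟨a, b, ha, hab⟩ := h t' (ht' ▸ v.2) t
  have haJ : a ∈ J := ⟨b, hinj (by rw [map_mul]; exact hab)⟩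
  have hva : v.1 ∈ Y2.basicOpen a := by
    rw [← Scheme.preimage_basicOpen] at ha
    rw [← ht']
    exact ha
  have : (⟨p, hp.isPrime⟩ : PrimeSpectrum Γ(Y2, U)) ∈ hU.fromSpec ⁻¹ᵁ Y2.basicOpen a := hva
  rw [hU.fromSpec_preimage_basicOpen] at this
  exact this (hJp haJ)

theorem isAffineOpen_inter_preimage {A B S P : Scheme.{u}} {a : A ⟶ S} {b : B ⟶ S} {p₁ : P ⟶ A}
    {p₂ : P ⟶ B} (H : IsPullback p₁ p₂ a b) {V : S.Opens} (hV : IsAffineOpen V) {U : A.Opens}
    (hU : IsAffineOpen U) (hUV : U ≤ a ⁻¹ᵁ V) {W : B.Opens} (hW : IsAffineOpen W)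
    (hWV : W ≤ b ⁻¹ᵁ V) : IsAffineOpen (p₁ ⁻¹ᵁ U ⊓ p₂ ⁻¹ᵁ W) := by
  haveI : IsAffine _ := hU
  haveI : IsAffine _ := hW
  haveI : IsAffine _ := hV
  exact .of_isIso (Scheme.Hom.isPullback_resLE H hWV hUV rfl).isoPullback.hom

/-- Residue fields extend trivially if invariant functions have values in the smaller field. -/
theorem isIso_residueFieldMap_of_values {T' Y' Y2 : Scheme.{u}} (r : T' ⟶ Y') (m : Y' ⟶ Y2)
    (t' : T') {V : Y'.Opens} (hV : IsAffineOpen V) (hVy : r t' ∈ V)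
    (h : ∀ (t : Γ(Y', V)), T'.evaluation (r ⁻¹ᵁ V) t' hVy ((r.app V).hom t) ∈
        ((r ≫ m).residueFieldMap t').hom.range) :
    IsIso (m.residueFieldMap (r t')) := by
  rw [ConcreteCategory.isIso_iff_bijective]
  refine ⟨(m.residueFieldMap (r t')).hom.injective, fun x => ?_⟩
  letI := (RingHom.kerLift (Y'.evaluation V (r t') hVy).hom).toAlgebra
  haveI := SGA1Q.isFractionRing_evaluation hV (r t') hVy
  haveI : (RingHom.ker (Y'.evaluation V (r t') hVy).hom).IsPrime := RingHom.ker_isPrime _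
  let φ := (r.residueFieldMap t').hom
  have hmem : ∀ t : Γ(Y', V), φ (Y'.evaluation V (r t') hVy t) ∈
      ((r ≫ m).residueFieldMap t').hom.range := fun t => by
    show r.residueFieldMap t' _ ∈ _
    rw [Scheme.evaluation_naturality_apply r t' hVy t]
    exact h t
  have hx : ∀ x, φ x ∈ ((r ≫ m).residueFieldMap t').hom.fieldRange := fun x => by
    obtain ⟨a, b, -, rfl⟩ := IsFractionRing.div_surjective
      (Γ(Y', V) ⧸ RingHom.ker (Y'.evaluation V (r t') hVy).hom) x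
    obtain ⟨a, rfl⟩ := Ideal.Quotient.mk_surjective a
    obtain ⟨b, rfl⟩ := Ideal.Quotient.mk_surjective b
    rw [map_div₀]
    exact div_mem (hmem a) (hmem b)
  obtain ⟨c, hc⟩ := hx x
  refine ⟨c, φ.injective ?_⟩
  rw [← hc]
  exact (congr(($(Scheme.residueFieldMap_comp r m t')).hom c)).symm

theorem isIso_of_isQuot_comp {T Y' Y2 : Scheme.{u}} {G : Type u} [Group G] [Finite G]
    {ρ : G →* Aut T} {r : T ⟶ Y'} (hr : SGA1.IsQuot ρ r) (m : Y' ⟶ Y2)
    (h : SGA1.IsQuot ρ (r ≫ m)) : IsIso m := by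
  obtain ⟨n, hn, -⟩ := SGA1Q.desc_existsUnique_isQuot h r hr.inv
  obtain ⟨_, _, hu⟩ := SGA1Q.desc_existsUnique_isQuot hr r hr.inv
  obtain ⟨_, _, hu'⟩ := SGA1Q.desc_existsUnique_isQuot h (r ≫ m) h.inv
  refine ⟨n, (hu _ ?_).trans (hu _ (Category.comp_id r)).symm,
    (hu' _ ?_).trans (hu' _ (Category.comp_id (r ≫ m))).symm⟩
  · exact (Category.assoc _ _ _).symm.trans hn
  · show (r ≫ m) ≫ n ≫ m = r ≫ m
    rw [← Category.assoc, hn]

end Groth.Agent.ZBSym
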