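import Groth.Agent.ZBSym.Surj
import Mathlib.AlgebraicGeometry.Morphisms.Flat
import Mathlib.RingTheory.IsTensorProduct
import Mathlib.LinearAlgebra.TensorProduct.Pi
import Mathlib.LinearAlgebra.Basis.VectorSpace
import Mathlib.Algebra.Category.Ring.Constructions

/-!
# Flatness of the rings of charts after base change
-/

set_option autoImplicit false
universe u

open CategoryTheory CategoryTheory.Limits AlgebraicGeometry TopologicalSpace
open scoped TensorProduct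

namespace Groth.Agent.ZBSym

theorem flat_pi {R : Type u} [CommRing R] {ι : Type u} [Finite ι] (M : ι → Type u)
    [∀ i, AddCommGroup (M i)] [∀ i, Module R (M i)] [∀ i, Module.Flat R (M i)] :
    Module.Flat R (∀ i, M i) := by
  classical
  cases nonempty_fintype ι
  exact Module.Flat.of_linearEquiv (DFinsupp.linearEquivFunOnFintype (R := R) (M := M)).symm

variable {Z S S' : Scheme.{u}} [IsAffine S'] (fZ : Z ⟶ S) (gS : S' ⟶ S)

/-- The rings of charts are flat after a base change with flat projection. -/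
theorem flat_chart (h : Flat (pullback.snd fZ gS)) :
    ∀ C : Chart fZ, ∀ hC : (⊤ : S'.Opens) ≤ gS ⁻¹ᵁ C.V,
      letI := (gS.appLE C.V ⊤ hC).hom.toAlgebra
      Module.Flat Γ(S', ⊤) (Γ(S', ⊤) ⊗[Γ(S, C.V)] C.B) := by
  intro C hC
  classical
  letI := (gS.appLE C.V ⊤ hC).hom.toAlgebra
  haveI := C.fin
  cases nonempty_fintype C.J
  letI algU : ∀ j, Algebra Γ(S, C.V) Γ(Z, C.U j) := fun j =>
    (fZ.appLE C.V (C.U j) (C.le j)).hom.toAlgebra
  haveI : ∀ j, Module.Flat Γ(S', ⊤) (Γ(S', ⊤) ⊗[Γ(S, C.V)] Γ(Z, C.U j)) := by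
    intro j
    let Y := pullback fZ gS
    let UY : Y.Opens := pullback.fst fZ gS ⁻¹ᵁ C.U j ⊓ pullback.snd fZ gS ⁻¹ᵁ ⊤
    have hpb : IsPullback (pullback.fst fZ gS) (pullback.snd fZ gS) fZ gS := .of_hasPullback _ _
    have hUY : UY = pullback.fst fZ gS ⁻¹ᵁ C.U j ⊓ pullback.snd fZ gS ⁻¹ᵁ ⊤ := rfl
    have hpo := (isIso_pushoutSection_iff hpb (US := C.V) (UT := ⊤) (UX := C.U j) hC (C.le j) hUY).1
      (isIso_pushoutSection_of_isAffineOpen hpb hC (C.le j) hUY C.hV (isAffineOpen_top S') (C.hU j))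
    letI algY' : Algebra Γ(S', ⊤) Γ(Y, UY) :=
      ((pullback.snd fZ gS).appLE ⊤ UY (fun _ _ => trivial)).hom.toAlgebra
    letI algYU : Algebra Γ(Z, C.U j) Γ(Y, UY) :=
      ((pullback.fst fZ gS).appLE (C.U j) UY inf_le_left).hom.toAlgebra
    letI algYR : Algebra Γ(S, C.V) Γ(Y, UY) :=
      (((pullback.fst fZ gS).appLE (C.U j) UY inf_le_left).hom.comp
        (fZ.appLE C.V (C.U j) (C.le j)).hom).toAlgebra
    haveI : IsScalarTower Γ(S, C.V) Γ(Z, C.U j) Γ(Y, UY) := IsScalarTower.of_algebraMap_eq' rfl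
    haveI : IsScalarTower Γ(S, C.V) Γ(S', ⊤) Γ(Y, UY) :=
      IsScalarTower.of_algebraMap_eq' (congrArg CommRingCat.Hom.hom hpo.w)
    haveI : Algebra.IsPushout Γ(S, C.V) Γ(S', ⊤) Γ(Z, C.U j) Γ(Y, UY) :=
      CommRingCat.isPushout_iff_isPushout.1 hpo.flip
    haveI hUYa : IsAffineOpen UY := by
      haveI : IsAffine _ := C.hU j
      haveI : IsAffine _ := isAffineOpen_top S'
      haveI : IsAffine _ := C.hV
      exact .of_isIso (Scheme.Hom.isPullback_resLE hpb hC (C.le j) hUY).isoPullback.hom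
    haveI : Module.Flat Γ(S', ⊤) Γ(Y, UY) :=
      (pullback.snd fZ gS).flat_appLE (isAffineOpen_top S') hUYa _
    exact Module.Flat.of_linearEquiv
      (Algebra.IsPushout.equiv Γ(S, C.V) Γ(S', ⊤) Γ(Z, C.U j) Γ(Y, UY)).toLinearEquiv
  haveI := flat_pi (R := Γ(S', ⊤)) fun j : C.J => Γ(S', ⊤) ⊗[Γ(S, C.V)] Γ(Z, C.U j)
  exact Module.Flat.of_linearEquiv
    (TensorProduct.piRight Γ(S, C.V) Γ(S', ⊤) Γ(S', ⊤) fun j : C.J => Γ(Z, C.U j))

/-- The rings of charts are flat after base change to a field. -/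
theorem flat_chart_field (K : Type u) [Field K] (g : Spec (CommRingCat.of K) ⟶ S) :
    ∀ C : Chart fZ, ∀ hC : (⊤ : (Spec (CommRingCat.of K)).Opens) ≤ g ⁻¹ᵁ C.V,
      letI := (g.appLE C.V ⊤ hC).hom.toAlgebra
      Module.Flat Γ(Spec (CommRingCat.of K), ⊤)
        (Γ(Spec (CommRingCat.of K), ⊤) ⊗[Γ(S, C.V)] C.B) := by
  intro C hC
  letI := (g.appLE C.V ⊤ hC).hom.toAlgebra
  have hF : IsField Γ(Spec (CommRingCat.of K), ⊤) :=
    ((Scheme.ΓSpecIso (CommRingCat.of K)).commRingCatIsoToRingEquiv.toMulEquiv).isField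
      (Field.toIsField K)
  letI := hF.toField
  exact inferInstance

end Groth.Agent.ZBSym
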