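import Groth.Agent.SGA1Q.Exists
import Mathlib.Algebra.Ring.Action.Basic
import Mathlib.RingTheory.Spectrum.Prime.Basic

/-!
# Invariant sections pulled back to affine schemes, and traces
-/

set_option autoImplicit false
universe u

open CategoryTheory CategoryTheory.Limits AlgebraicGeometry TopologicalSpace

namespace Groth.Agent.ZBSym

section SpecAct

variable (G : Type u) [Group G] (Q : Type u) [CommRing Q] [MulSemiringAction G Q]

/-- The action on the spectrum of an action by ring automorphisms. -/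
noncomputable def specAct : G →* Aut (Spec (CommRingCat.of Q)) where
  toFun g :=
    { hom := Spec.map (CommRingCat.ofHom (MulSemiringAction.toRingHom G Q g⁻¹))
      inv := Spec.map (CommRingCat.ofHom (MulSemiringAction.toRingHom G Q g))
      hom_inv_id := by
        rw [← Spec.map_comp, ← Spec.map_id]
        congr 1
        ext a
        exact inv_smul_smul g a
      inv_hom_id := by
        rw [← Spec.map_comp, ← Spec.map_id]
        congr 1
        ext a
        exact smul_inv_smul g a }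
  map_one' := by
    refine Iso.ext ?_
    show Spec.map _ = 𝟙 _
    rw [← Spec.map_id]
    congr 1
    ext a
    show (1 : G)⁻¹ • a = a
    rw [inv_one, one_smul]
  map_mul' g g' := by
    refine Iso.ext ?_
    show Spec.map _ = Spec.map _ ≫ Spec.map _
    rw [← Spec.map_comp]
    congr 1
    ext a
    show (g * g')⁻¹ • a = g'⁻¹ • g⁻¹ • a
    rw [mul_inv_rev, mul_smul]

theorem specAct_hom (g : G) :
    (specAct G Q g).hom = Spec.map (CommRingCat.ofHom (MulSemiringAction.toRingHom G Q g⁻¹)) := rfl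

theorem specAct_appTop (g : G) (a : Q) :
    (specAct G Q g).hom.appTop.hom ((Scheme.ΓSpecIso (CommRingCat.of Q)).inv.hom a) =
      (Scheme.ΓSpecIso (CommRingCat.of Q)).inv.hom (g⁻¹ • a) :=
  (congr(($(Scheme.ΓSpecIso_inv_naturality
    (CommRingCat.ofHom (MulSemiringAction.toRingHom G Q g⁻¹)))).hom a)).symm

end SpecAct

variable {G : Type u} [Group G] [Finite G]

/-- Prime avoidance: a function vanishing off an open and at none of finitely many given points. -/
theorem exists_basicOpen_le_of_forall {X : Scheme.{u}} {V : X.Opens} (hV : IsAffineOpen V)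
    {ι : Type*} [Finite ι] (x : ι → X) (W : X.Opens) (hx : ∀ i, x i ∈ W) (hxV : ∀ i, x i ∈ V) :
    ∃ f : Γ(X, V), X.basicOpen f ≤ W ∧ ∀ i, x i ∈ X.basicOpen f := by
  classical
  cases nonempty_fintype ι
  rcases isEmpty_or_nonempty ι with hι | hι
  · exact ⟨0, by rw [Scheme.basicOpen_zero]; exact bot_le, fun i => hι.elim i⟩
  let I : Ideal Γ(X, V) :=
    { carrier := {f | X.basicOpen f ≤ W}
      add_mem' := fun {a b} ha hb => (X.basicOpen_add_le a b).trans (sup_le ha hb)
      zero_mem' := by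
        show X.basicOpen (0 : Γ(X, V)) ≤ W
        rw [Scheme.basicOpen_zero]; exact bot_le
      smul_mem' := fun c a ha => by
        show X.basicOpen (c * a) ≤ W
        rw [Scheme.basicOpen_mul]
        exact inf_le_right.trans ha }
  let P : ι → Ideal Γ(X, V) := fun i =>
    RingHom.ker (X.evaluation V (x i) (hxV i)).hom
  have hP : ∀ i a, a ∈ P i ↔ x i ∉ X.basicOpen a := fun i a =>
    Scheme.evaluation_eq_zero_iff_notMem_basicOpen X (U := V) (x i) (hxV i) a
  by_contra hne
  push Not at hne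
  have hsub : (I : Set Γ(X, V)) ⊆ ⋃ i ∈ (↑(Finset.univ : Finset ι) : Set ι), P i := by
    intro f hf
    obtain ⟨i, hi⟩ := hne f hf
    exact Set.mem_biUnion (Finset.mem_coe.2 (Finset.mem_univ i)) ((hP i f).2 hi)
  obtain ⟨i, -, hi⟩ := (Ideal.subset_union_prime (Classical.arbitrary ι) (Classical.arbitrary ι)
    (fun i _ _ _ => RingHom.ker_isPrime _)).1 hsub
  obtain ⟨f, hf, hxf⟩ := hV.exists_basicOpen_le ⟨_, hx i⟩ (hxV i)
  exact (hP i f).1 (hi (show f ∈ I from hf)) hxf

/-- An invariant function vanishing off a stable open and not at a given point. -/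
theorem exists_invariant_basicOpen {D : Scheme.{u}} [IsAffine D] (σ : G →* Aut D) (W : D.Opens)
    (w : D) (hw : ∀ g, (σ g).hom w ∈ W) :
    ∃ s : Γ(D, ⊤), (∀ g, (σ g).hom.appTop.hom s = s) ∧ D.basicOpen s ≤ W ∧ w ∈ D.basicOpen s := by
  classical
  cases nonempty_fintype G
  obtain ⟨f, hf, hwf⟩ := exists_basicOpen_le_of_forall (isAffineOpen_top D)
    (fun g => (σ g).hom w) W hw (fun _ => trivial)
  have hcomp : ∀ g h, (σ h).hom.appTop.hom ((σ g).hom.appTop.hom f) =
      (σ (g * h)).hom.appTop.hom f := fun g h => by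
    rw [SGA1Q.hom_mul, Scheme.Hom.comp_appTop]
    rfl
  refine ⟨∏ g, (σ g).hom.appTop.hom f, fun h => ?_, ?_, ?_⟩
  · rw [map_prod]
    exact Fintype.prod_equiv (Equiv.mulRight h) _ _ fun g => hcomp g h
  · refine le_trans ?_ hf
    rw [← Finset.mul_prod_erase Finset.univ _ (Finset.mem_univ (1 : G)), Scheme.basicOpen_mul]
    refine inf_le_left.trans (le_of_eq ?_)
    rw [← Scheme.preimage_basicOpen_top, SGA1Q.hom_one]
    rfl
  · have : ∀ S : Finset G, w ∈ D.basicOpen (∏ g ∈ S, (σ g).hom.appTop.hom f) := by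
      intro S
      induction S using Finset.induction with
      | empty => simp [Scheme.basicOpen_one]
      | insert g S hg ih =>
        rw [Finset.prod_insert hg, Scheme.basicOpen_mul]
        refine ⟨?_, ih⟩
        rw [← Scheme.preimage_basicOpen_top]
        exact hwf g
    exact this _

/-- Invariant sections over a stable open pull back, on an invariant basic open, to fractions
with invariant numerator. -/
theorem exists_numerators {D T : Scheme.{u}} [IsAffine D] (σ : G →* Aut D) (ρ : G →* Aut T)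
    (Φ : D ⟶ T) (hΦ : ∀ g, (σ g).hom ≫ Φ = Φ ≫ (ρ g).hom) (O : T.Opens)
    (hst : ∀ g, O ≤ (ρ g).hom ⁻¹ᵁ O) (w : D) (hw : Φ w ∈ O) :
    ∃ (s : Γ(D, ⊤)) (hle : D.basicOpen s ≤ Φ ⁻¹ᵁ O), (∀ g, (σ g).hom.appTop.hom s = s) ∧
      w ∈ D.basicOpen s ∧
      ∀ t : Γ(T, O), (∀ g, ((ρ g).hom.appLE O O (hst g)).hom t = t) →
        ∃ (a : Γ(D, ⊤)) (N : ℕ), (∀ g, (σ g).hom.appTop.hom a = a) ∧
          (Φ.appLE O (D.basicOpen s) hle).hom t *
              ((D.presheaf.map (homOfLE le_top).op).hom s) ^ N =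
            (D.presheaf.map (homOfLE le_top).op).hom a := by
  classical
  cases nonempty_fintype G
  obtain ⟨s, hs, hle, hws⟩ := exists_invariant_basicOpen σ (Φ ⁻¹ᵁ O) w fun g => by
    show ((σ g).hom ≫ Φ) w ∈ O
    rw [hΦ]
    exact hst g hw
  refine ⟨s, hle, hs, hws, fun t ht => ?_⟩
  let res : Γ(D, ⊤) →+* Γ(D, D.basicOpen s) := (D.presheaf.map (homOfLE le_top).op).hom
  letI : Algebra Γ(D, ⊤) Γ(D, D.basicOpen s) := res.toAlgebra
  haveI : IsLocalization.Away s Γ(D, D.basicOpen s) := (isAffineOpen_top D).isLocalization_basicOpen s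
  let x := (Φ.appLE O (D.basicOpen s) hle).hom t
  obtain ⟨⟨b, ⟨_, k, rfl⟩⟩, hb⟩ := IsLocalization.surj (Submonoid.powers s) x
  have hb' : x * res s ^ k = res b := by rw [← map_pow]; exact hb
  have hpre : ∀ g, D.basicOpen s ≤ (σ g).hom ⁻¹ᵁ D.basicOpen s := fun g => by
    rw [Scheme.preimage_basicOpen_top, hs]
  have hnat : ∀ g (c : Γ(D, ⊤)), ((σ g).hom.appLE _ _ (hpre g)).hom (res c) =
      res ((σ g).hom.appTop.hom c) := fun g c => by
    have e : D.presheaf.map (homOfLE le_top).op ≫ (σ g).hom.appLE _ _ (hpre g) =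
        (σ g).hom.appTop ≫ D.presheaf.map (homOfLE le_top).op := by
      rw [Scheme.Hom.map_appLE]
      rfl
    exact congr(($e).hom c)
  have hx : ∀ g, ((σ g).hom.appLE _ _ (hpre g)).hom x = x := fun g => by
    have e : Φ.appLE O _ hle ≫ (σ g).hom.appLE _ _ (hpre g) =
        (ρ g).hom.appLE O O (hst g) ≫ Φ.appLE O _ hle := by
      rw [Scheme.Hom.appLE_comp_appLE, Scheme.Hom.appLE_comp_appLE]
      exact SGA1Q.appLE_congr_hom (hΦ g) _ _
    refine (congr(($e).hom t)).trans ?_
    exact congrArg (Φ.appLE O _ hle).hom (ht g)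
  have hfix : ∀ g, ∃ n : ℕ, s ^ n * (σ g).hom.appTop.hom b = s ^ n * b := by
    intro g
    have e : res ((σ g).hom.appTop.hom b) = res b := by
      rw [← hnat, ← hb', map_mul, map_pow, hx, hnat, hs]
    obtain ⟨⟨_, n, rfl⟩, hn⟩ := (IsLocalization.eq_iff_exists (Submonoid.powers s) _).1 e
    exact ⟨n, hn⟩
  choose n hn using hfix
  let M := Finset.univ.sup n
  refine ⟨s ^ M * b, k + M, fun g => ?_, ?_⟩
  · obtain ⟨j, hj⟩ := Nat.exists_eq_add_of_le (show n g ≤ M from Finset.le_sup (Finset.mem_univ g))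
    rw [map_mul, map_pow, hs, hj, add_comm, pow_add, mul_assoc, hn, mul_assoc]
  · show x * res s ^ (k + M) = res (s ^ M * b)
    rw [map_mul, map_pow, pow_add, ← mul_assoc, hb', mul_comm]

/-- A fraction fixed by a group fixing the denominator has a fixed numerator. -/
theorem exists_fixed_numerator {A L : Type*} [CommRing A] [CommRing L] [Algebra A L] (s : A)
    [IsLocalization.Away s L] {ι : Type*} [Finite ι] (act : ι → A →+* A) (hs : ∀ i, act i s = s)
    (x : L)
    (hx : ∀ (b : A) (n : ℕ), x * algebraMap A L s ^ n = algebraMap A L b →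
      ∀ i, algebraMap A L (act i b) = algebraMap A L b) :
    ∃ (b : A) (n : ℕ), (∀ i, act i b = b) ∧ x * algebraMap A L s ^ n = algebraMap A L b := by
  classical
  cases nonempty_fintype ι
  obtain ⟨⟨b, ⟨_, k, rfl⟩⟩, hb⟩ := IsLocalization.surj (Submonoid.powers s) x
  have hb' : x * algebraMap A L s ^ k = algebraMap A L b := by rw [← map_pow]; exact hb
  have hfix : ∀ i, ∃ n : ℕ, s ^ n * act i b = s ^ n * b := fun i => by
    obtain ⟨⟨_, n, rfl⟩, hn⟩ :=
      (IsLocalization.eq_iff_exists (Submonoid.powers s) _).1 (hx b k hb' i)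
    exact ⟨n, hn⟩
  choose n hn using hfix
  let M := Finset.univ.sup n
  refine ⟨s ^ M * b, k + M, fun i => ?_, ?_⟩
  · obtain ⟨j, hj⟩ := Nat.exists_eq_add_of_le (show n i ≤ M from Finset.le_sup (Finset.mem_univ i))
    rw [map_mul, map_pow, hs, hj, add_comm, pow_add, mul_assoc, hn, mul_assoc]
  · rw [map_mul, map_pow, pow_add, ← mul_assoc, hb', mul_comm]

/-- The trace from a subgroup. -/
noncomputable def tr {A : Type*} [CommRing A] [MulSemiringAction G A] (H : Subgroup G) (x : A) :
    A :=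
  haveI := Fintype.ofFinite (G ⧸ H)
  ∑ c : G ⧸ H, c.out • x

section Tr

variable {A : Type*} [CommRing A] [MulSemiringAction G A] (H : Subgroup G)

theorem tr_add (x y : A) : tr H (x + y) = tr H x + tr H y := by
  simp only [tr, smul_add, Finset.sum_add_distrib]

theorem tr_zero : tr H (0 : A) = 0 := by simp [tr]

theorem tr_mul {t : A} (ht : ∀ g : G, g • t = t) (x : A) : tr H (t * x) = t * tr H x := by
  simp only [tr, smul_mul', ht, Finset.mul_sum]

theorem smul_tr {x : A} (hx : ∀ h ∈ H, h • x = x) (g : G) : g • tr H x = tr H x := by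
  simp only [tr, Finset.smul_sum, smul_smul]
  letI := Fintype.ofFinite (G ⧸ H)
  refine Fintype.sum_equiv (MulAction.toPerm g) _ _ fun c => ?_
  have hh : (g • c).out⁻¹ * (g * c.out) ∈ H := by
    rw [← QuotientGroup.eq, QuotientGroup.out_eq']
    conv_lhs => rw [← QuotientGroup.out_eq' c]
    rfl
  conv_lhs => rw [show g * c.out = (g • c).out * ((g • c).out⁻¹ * (g * c.out)) by
    rw [mul_inv_cancel_left]]
  rw [mul_smul, hx _ hh]
  rfl

theorem tr_notMem (q : Ideal A) {x : A} (hH : ∀ h ∈ H, h • x = x) (hx : x ∉ q)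
    (hout : ∀ g : G, g ∉ H → g • x ∈ q) : tr H x ∉ q := by
  classical
  let _ : Fintype (G ⧸ H) := Fintype.ofFinite _
  intro hmem
  have h1 : ((1 : G) : G ⧸ H).out ∈ H := by
    have h := QuotientGroup.eq.1 (QuotientGroup.out_eq' ((1 : G) : G ⧸ H))
    simpa using h
  have hrest : ∑ c ∈ Finset.univ.erase ((1 : G) : G ⧸ H), c.out • x ∈ q := by
    refine q.sum_mem fun c hc => hout _ fun hmem => (Finset.mem_erase.1 hc).1 ?_
    rw [← QuotientGroup.out_eq' c, QuotientGroup.eq]
    simpa using hmem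
  have hsum : tr H x = ((1 : G) : G ⧸ H).out • x +
      ∑ c ∈ Finset.univ.erase ((1 : G) : G ⧸ H), c.out • x := by
    rw [tr]
    exact (Finset.add_sum_erase _ _ (Finset.mem_univ _)).symm
  rw [hsum, Ideal.add_mem_iff_left _ hrest, hH _ h1] at hmem
  exact hx hmem

end Tr

end Groth.Agent.ZBSym
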