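import Groth.Agent.ZBSym.Geom
import Groth.Agent.ZBSym.Affine

/-!
# A chart at an orbit of a fibre power
-/

set_option autoImplicit false
universe u

open CategoryTheory CategoryTheory.Limits AlgebraicGeometry TopologicalSpace
open scoped TensorProduct

namespace Groth.Agent.ZBSym

variable {X S : Scheme.{u}} (f : X ⟶ S) (d : ℕ)

/-- The symmetric group, lifted. -/
abbrev Sd : Type u := ULift.{u} (Equiv.Perm (Fin d))

/-- A stable affine open of a fibre power, over an affine open of the base. -/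
structure StableOpen where
  V : S.Opens
  hV : IsAffineOpen V
  O : (SymProd.fibPow f d).Opens
  hO : IsAffineOpen O
  hst : ∀ g : Sd.{u} d, O ≤ (SymProd.permActU f d g).hom ⁻¹ᵁ O
  hbO : O ≤ (WidePullback.base fun _ : Fin d => f) ⁻¹ᵁ V

variable {f d} (Ω : StableOpen f d)

noncomputable instance StableOpen.action : MulSemiringAction (Sd.{u} d) Γ(SymProd.fibPow f d, Ω.O) :=
  SGA1Q.secAction (SymProd.permActU f d) Ω.O Ω.hst

theorem StableOpen.smul_def (g : Sd.{u} d) (a : Γ(SymProd.fibPow f d, Ω.O)) :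
    g • a = ((SymProd.permActU f d g⁻¹).hom.appLE Ω.O Ω.O (Ω.hst _)).hom a := rfl

noncomputable instance StableOpen.algA : Algebra Γ(S, Ω.V) Γ(SymProd.fibPow f d, Ω.O) :=
  ((WidePullback.base fun _ : Fin d => f).appLE Ω.V Ω.O Ω.hbO).hom.toAlgebra

theorem StableOpen.smul_algebraMap (g : Sd.{u} d) (r : Γ(S, Ω.V)) :
    g • algebraMap Γ(S, Ω.V) Γ(SymProd.fibPow f d, Ω.O) r =
      algebraMap Γ(S, Ω.V) Γ(SymProd.fibPow f d, Ω.O) r :=
  Chart.appLE_comp_apply _ _ Ω.hbO (Ω.hst _) r (SymProd.permHom_base f d _) _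

instance StableOpen.smulComm : SMulCommClass (Sd.{u} d) Γ(S, Ω.V) Γ(SymProd.fibPow f d, Ω.O) :=
  ⟨fun g r a => by rw [Algebra.smul_def, Algebra.smul_def, smul_mul', Ω.smul_algebraMap]⟩

theorem StableOpen.basicOpen_smul (g : Sd.{u} d) (a : Γ(SymProd.fibPow f d, Ω.O)) :
    (SymProd.fibPow f d).basicOpen (g • a) =
      Ω.O ⊓ (SymProd.permActU f d g⁻¹).hom ⁻¹ᵁ (SymProd.fibPow f d).basicOpen a :=
  Scheme.basicOpen_appLE _ _ _ _ a

theorem StableOpen.apply_mem (g : Sd.{u} d) {w : SymProd.fibPow f d} (hw : w ∈ Ω.O) :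
    (SymProd.permActU f d g).hom w ∈ Ω.O :=
  Ω.hst g hw

/-- A chart of the factors at an orbit, with an invariant function cutting out the product. -/
structure Spot (z : SymProd.fibPow f d) where
  J : Type u
  fin : Finite J
  U : J → X.Opens
  hU : ∀ j, IsAffineOpen (U j)
  le : ∀ j, U j ≤ f ⁻¹ᵁ Ω.V
  c : Fin d → J
  H : Subgroup (Sd.{u} d)
  hperm : ∀ h ∈ H, ∀ i, c (h.down i) = c i
  e : Γ(SymProd.fibPow f d, Ω.O)
  he : ∀ h ∈ H, h • e = e
  hz : z ∈ (SymProd.fibPow f d).basicOpen e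
  hout : ∀ g, g ∉ H → (SymProd.permActU f d g).hom z ∉ (SymProd.fibPow f d).basicOpen e
  hc : ∀ i, (SymProd.fibPow f d).basicOpen e ≤ WidePullback.π (fun _ : Fin d => f) i ⁻¹ᵁ U (c i)

theorem not_specializes_of_ne {T : Scheme.{u}} {G : Type u} [Group G] [Finite G] (ρ : G →* Aut T)
    (g : G) (w : T) (h : (ρ g).hom w ⤳ w) : (ρ g).hom w = w := by
  have hn : ∀ n : ℕ, (ρ (g ^ n)).hom w ⤳ w := by
    intro n
    induction n with
    | zero => rw [pow_zero, SGA1Q.hom_one_apply]
    | succ n ih =>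
      rw [pow_succ', ← SGA1Q.hom_mul_apply]
      exact (ih.map (ρ g).hom.continuous).trans h
  have h' : w ⤳ (ρ g).hom w := by
    have e : (ρ g).hom ((ρ (g ^ (orderOf g - 1))).hom w) = w := by
      rw [SGA1Q.hom_mul_apply, ← pow_succ', Nat.sub_add_cancel (orderOf_pos g), pow_orderOf_eq_one,
        SGA1Q.hom_one_apply]
    have := (hn (orderOf g - 1)).map (ρ g).hom.continuous
    rwa [e] at this
  exact (h.antisymm h').eq

set_option maxHeartbeats 1000000 in
theorem exists_spot (z : SymProd.fibPow f d) (hz : z ∈ Ω.O) : Nonempty (Spot Ω z) := by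
  classical
  let T := SymProd.fibPow f d
  let x : Fin d → X := fun i => WidePullback.π (fun _ : Fin d => f) i z
  let J : Type u := Set.range x
  have : Finite J := (Set.finite_range x).to_subtype
  have hJ : ∀ j : J, j.1 ∈ f ⁻¹ᵁ Ω.V := by
    rintro ⟨_, i, rfl⟩
    show (WidePullback.π (fun _ : Fin d => f) i ≫ f) z ∈ Ω.V
    rw [WidePullback.π_arrow]
    exact Ω.hbO hz
  choose U hU hxU hUle using fun j : J =>
    exists_isAffineOpen_mem_and_subset (x := j.1) (U := f ⁻¹ᵁ Ω.V) (hJ j)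
  let c : Fin d → J := fun i => ⟨x i, i, rfl⟩
  let H : Subgroup (Sd.{u} d) :=
    { carrier := {σ | ∀ i, x (σ.down i) = x i}
      mul_mem' := fun {a b} ha hb i => (ha (b.down i)).trans (hb i)
      one_mem' := fun _ => rfl
      inv_mem' := fun {a} ha i => by
        conv_rhs => rw [← Equiv.apply_symm_apply a.down i]
        exact (ha (a.down.symm i)).symm }
  have hπ : ∀ (g : Sd.{u} d) i,
      WidePullback.π (fun _ : Fin d => f) i ((SymProd.permActU f d g).hom z) = x (g.down.symm i) :=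
    fun g i => congr(($(SymProd.permHom_π f d g.down i)) z)
  have hne : ∀ g h : Sd.{u} d, g ∉ H → h ∈ H →
      ¬ (SymProd.permActU f d g).hom z ⤳ (SymProd.permActU f d h).hom z := by
    intro g h hg hh hspec
    have key := not_specializes_of_ne (SymProd.permActU f d) (g * h⁻¹)
      ((SymProd.permActU f d h).hom z) (by rwa [SGA1Q.hom_mul_apply, inv_mul_cancel_right])
    rw [SGA1Q.hom_mul_apply, inv_mul_cancel_right] at key
    refine hg fun i => ?_
    have := congrArg (fun w => WidePullback.π (fun _ : Fin d => f) (g.down i) w) key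
    simp only [hπ, Equiv.symm_apply_apply] at this
    exact ((H.inv_mem hh) (g.down i)).symm.trans this.symm
  let bad : Set T := ⋃ g : {g : Sd.{u} d // g ∉ H}, closure {(SymProd.permActU f d g.1).hom z}
  have hbad : IsClosed bad := isClosed_iUnion_of_finite fun _ => isClosed_closure
  let W₀ : T.Opens := (Ω.O ⊓ Finset.univ.inf fun i => WidePullback.π (fun _ : Fin d => f) i ⁻¹ᵁ
    U (c i)) ⊓ ⟨badᶜ, hbad.isOpen_compl⟩
  have hinf : ∀ (w : T) (s : Finset (Fin d)),
      w ∈ s.inf (fun i => WidePullback.π (fun _ : Fin d => f) i ⁻¹ᵁ U (c i)) ↔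
        ∀ i ∈ s, WidePullback.π (fun _ : Fin d => f) i w ∈ U (c i) := by
    intro w s
    induction s using Finset.induction with
    | empty => simp
    | insert a s ha ih =>
      rw [Finset.inf_insert, Opens.mem_inf, ih, Finset.forall_mem_insert]
      rfl
  have hmem : ∀ h : H, (SymProd.permActU f d h.1).hom z ∈ W₀ := fun h =>
    ⟨⟨Ω.apply_mem _ hz, (hinf _ _).2 fun i _ => by
      rw [hπ]
      have : x (h.1.down.symm i) = x i := (H.inv_mem h.2) i
      rw [this]
      exact hxU (c i)⟩, fun hmem => by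
        obtain ⟨g, hg⟩ := Set.mem_iUnion.1 hmem
        exact hne g.1 h.1 g.2 h.2 (specializes_iff_mem_closure.2 hg)⟩
  obtain ⟨a, haW, hamem⟩ := exists_basicOpen_le_of_forall Ω.hO
    (fun h : H => (SymProd.permActU f d h.1).hom z) W₀ hmem (fun h => Ω.apply_mem _ hz)
  let _ := Fintype.ofFinite H
  let e := ∏ h : H, h.1 • a
  have hbe : ∀ (s : Finset H) (w : T), w ∈ T.basicOpen (∏ h ∈ s, h.1 • a) ↔
      w ∈ Ω.O ∧ ∀ h ∈ s, (SymProd.permActU f d h.1⁻¹).hom w ∈ T.basicOpen a := by
    intro s w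
    induction s using Finset.induction with
    | empty => simp [T, Scheme.basicOpen_one]
    | insert h s hs ih =>
      rw [Finset.prod_insert hs, Scheme.basicOpen_mul, Opens.mem_inf, ih, Ω.basicOpen_smul,
        Opens.mem_inf, Finset.forall_mem_insert]
      exact ⟨fun ⟨⟨h1, h2⟩, _, h3⟩ => ⟨h1, h2, h3⟩, fun ⟨h1, h2, h3⟩ => ⟨⟨h1, h2⟩, h1, h3⟩⟩
  have hle : T.basicOpen e ≤ W₀ := fun w hw => by
    have := ((hbe _ w).1 hw).2 1 (Finset.mem_univ _)
    refine haW ?_
    rwa [show ((1 : H).1)⁻¹ = (1 : Sd.{u} d) from inv_one, SGA1Q.hom_one_apply] at this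
  have hfix : ∀ h ∈ H, h • e = e := by
    intro h hh
    have hsum : ∀ k : H, h • k.1 • a = ((⟨h, hh⟩ : H) * k).1 • a := fun k => by
      rw [Subgroup.coe_mul, mul_smul]
    calc h • e = ∏ k : H, h • k.1 • a := Finset.smul_prod'
      _ = ∏ k : H, ((⟨h, hh⟩ : H) * k).1 • a := Finset.prod_congr rfl fun k _ => hsum k
      _ = e := Equiv.prod_comp (Equiv.mulLeft (⟨h, hh⟩ : H)) fun k : H => k.1 • a
  have hze : z ∈ T.basicOpen e := (hbe _ z).2 ⟨hz, fun h _ => hamem h⁻¹⟩
  have hout : ∀ g, g ∉ H → (SymProd.permActU f d g).hom z ∉ T.basicOpen e := fun g hg hmem =>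
    (hle hmem).2 (Set.mem_iUnion.2 ⟨⟨g, hg⟩, subset_closure rfl⟩)
  have hcW : ∀ i, T.basicOpen e ≤ WidePullback.π (fun _ : Fin d => f) i ⁻¹ᵁ U (c i) := fun i w hw =>
    (hinf w _).1 (hle hw).1.2 i (Finset.mem_univ i)
  exact ⟨⟨J, inferInstance, U, hU, hUle, c, H, fun h hh i => Subtype.ext (hh i), e, hfix, hze, hout,
    hcW⟩⟩

namespace Spot

variable {Ω} {z : SymProd.fibPow f d} (P : Spot Ω z)

/-- The chart of a spot. -/
@[reducible]
noncomputable def chart : Chart f :=
  ⟨Ω.V, Ω.hV, P.J, P.fin, P.U, P.hU, P.le⟩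

noncomputable instance algChartB : Algebra Γ(S, Ω.V) P.chart.B := P.chart.algB

/-- The open cut out by a spot. -/
noncomputable abbrev W : (SymProd.fibPow f d).Opens := (SymProd.fibPow f d).basicOpen P.e

/-- The slot of a spot. -/
noncomputable abbrev slot : P.chart.Slot (SymProd.fibPow f d) d where
  b := WidePullback.base _
  p i := WidePullback.π _ i
  w i := WidePullback.π_arrow _ i
  W := P.W
  c := P.c
  hc := P.hc
  hb := le_trans ((SymProd.fibPow f d).basicOpen_le P.e) Ω.hbO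

/-- Functions fixed by the subgroup of a spot. -/
noncomputable def fixed : Subalgebra Γ(S, Ω.V) Γ(SymProd.fibPow f d, Ω.O) where
  carrier := {a | ∀ h ∈ P.H, h • a = a}
  mul_mem' ha hb h hh := by rw [smul_mul', ha h hh, hb h hh]
  one_mem' h _ := smul_one h
  add_mem' ha hb h hh := by rw [smul_add, ha h hh, hb h hh]
  zero_mem' h _ := smul_zero h
  algebraMap_mem' r h _ := Ω.smul_algebraMap h r

theorem mem_fixed {a : Γ(SymProd.fibPow f d, Ω.O)} : a ∈ P.fixed ↔ ∀ h ∈ P.H, h • a = a := Iff.rfl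

/-- The denominator of a spot, as a fixed function. -/
noncomputable def eH : P.fixed := ⟨P.e, P.he⟩

/-- Fractions of fixed functions. -/
abbrev L : Type u := Localization.Away P.eH

/-- Restriction to the open of a spot. -/
noncomputable def res : Γ(SymProd.fibPow f d, Ω.O) →+* Γ(SymProd.fibPow f d, P.W) :=
  ((SymProd.fibPow f d).presheaf.map (homOfLE ((SymProd.fibPow f d).basicOpen_le P.e)).op).hom

theorem isLocalization_res :
    @IsLocalization.Away Γ(SymProd.fibPow f d, Ω.O) _ P.e Γ(SymProd.fibPow f d, P.W) _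
      P.res.toAlgebra :=
  Ω.hO.isLocalization_basicOpen P.e

/-- The map of fractions of fixed functions to functions on the open of a spot. -/
noncomputable def iota : P.L →+* Γ(SymProd.fibPow f d, P.W) :=
  IsLocalization.Away.lift P.eH (g := P.res.comp P.fixed.val.toRingHom) (by
    let _ := P.res.toAlgebra
    have := P.isLocalization_res
    exact IsLocalization.map_units Γ(SymProd.fibPow f d, P.W)
      (⟨P.e, Submonoid.mem_powers P.e⟩ : Submonoid.powers P.e))

theorem iota_algebraMap (a : P.fixed) : P.iota (algebraMap P.fixed P.L a) = P.res a.1 :=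
  IsLocalization.Away.lift_eq P.eH _ a

theorem iota_injective : Function.Injective P.iota := by
  let _ := P.res.toAlgebra
  have := P.isLocalization_res
  refine (injective_iff_map_eq_zero _).2 fun l hl => ?_
  obtain ⟨⟨b, ⟨_, n, rfl⟩⟩, hb⟩ := IsLocalization.surj (Submonoid.powers P.eH) l
  have h0 : algebraMap Γ(SymProd.fibPow f d, Ω.O) Γ(SymProd.fibPow f d, P.W) b.1 = 0 := by
    show P.res b.1 = 0
    rw [← P.iota_algebraMap b, ← hb, map_mul, hl, zero_mul]
  obtain ⟨⟨_, m, rfl⟩, hm⟩ := (IsLocalization.map_eq_zero_iff (Submonoid.powers P.e) _ _).1 h0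
  have hb0 : algebraMap P.fixed P.L b = 0 :=
    (IsLocalization.map_eq_zero_iff (Submonoid.powers P.eH) _ _).2
      ⟨⟨_, m, rfl⟩, Subtype.ext hm⟩
  rw [hb0] at hb
  exact (IsLocalization.map_units P.L
    (⟨P.eH ^ n, n, rfl⟩ : Submonoid.powers P.eH)).mul_left_eq_zero.1 hb

theorem W_le (h : Sd.{u} d) (hh : h ∈ P.H) : P.W ≤ (SymProd.permActU f d h).hom ⁻¹ᵁ P.W := by
  intro w hw
  have h' : w ∈ (SymProd.fibPow f d).basicOpen (h⁻¹ • P.e) := by
    rw [P.he _ (P.H.inv_mem hh)]; exact hw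
  rw [Ω.basicOpen_smul, inv_inv] at h'
  exact h'.2

theorem theta_fixed (u : P.chart.P d) (hu : ∀ σ, SymTen.perm Γ(S, Ω.V) P.chart.B d σ u = u)
    (h : Sd.{u} d) (hh : h ∈ P.H) :
    ((SymProd.permActU f d h).hom.appLE P.W P.W (P.W_le h hh)).hom (P.slot.theta u) =
      P.slot.theta u := by
  let D' : P.chart.Slot (SymProd.fibPow f d) d :=
    { b := WidePullback.base _
      p := fun i => WidePullback.π _ (h.down.symm i)
      w := fun i => WidePullback.π_arrow _ _
      W := P.W
      c := P.c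
      hc := fun i => by
        have := P.hc (h.down.symm i)
        rwa [show P.c (h.down.symm i) = P.c i from P.hperm h⁻¹ (P.H.inv_mem hh) i] at this
      hb := P.slot.hb }
  refine (P.slot.theta_natural (SymProd.permActU f d h).hom D' (SymProd.permHom_base f d _)
    (fun i => SymProd.permHom_π f d _ i) (fun _ => rfl) _ u).trans ?_
  rw [P.slot.theta_perm h.down.symm D' rfl (fun _ => rfl)
    (fun i => (P.hperm h⁻¹ (P.H.inv_mem hh) i).symm) le_rfl u, hu]
  exact congr(($((SymProd.fibPow f d).presheaf.map_id _)).hom (P.slot.theta u))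

theorem exists_thetaL : ∃ θ : SymTen.TS Γ(S, Ω.V) P.chart.B d →ₐ[Γ(S, Ω.V)] P.L,
    ∀ v, P.iota (θ v) = P.slot.theta ((SymTen.TS Γ(S, Ω.V) P.chart.B d).val v) := by
  classical
  let _ := P.res.toAlgebra
  have := P.isLocalization_res
  have hres : ∀ (h : Sd.{u} d) (hh : h ∈ P.H) (a : Γ(SymProd.fibPow f d, Ω.O)),
      ((SymProd.permActU f d h).hom.appLE P.W P.W (P.W_le h hh)).hom (P.res a) =
        P.res (h⁻¹ • a) := fun h hh a => by
    rw [Ω.smul_def]
    simp only [inv_inv]
    have e : (SymProd.fibPow f d).presheaf.map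
        (homOfLE ((SymProd.fibPow f d).basicOpen_le P.e)).op ≫
          (SymProd.permActU f d h).hom.appLE P.W P.W (P.W_le h hh) =
        (SymProd.permActU f d h).hom.appLE Ω.O Ω.O (Ω.hst h) ≫ (SymProd.fibPow f d).presheaf.map
          (homOfLE ((SymProd.fibPow f d).basicOpen_le P.e)).op := by
      rw [Scheme.Hom.map_appLE, Scheme.Hom.appLE_map]
    exact congr(($e).hom a)
  have hex : ∀ v : SymTen.TS Γ(S, Ω.V) P.chart.B d, ∃ l : P.L,
      P.iota l = P.slot.theta ((SymTen.TS Γ(S, Ω.V) P.chart.B d).val v) := by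
    intro v
    obtain ⟨b, n, hb, heq⟩ := exists_fixed_numerator (L := Γ(SymProd.fibPow f d, P.W)) P.e
      (fun h : P.H => MulSemiringAction.toRingHom (Sd.{u} d) _ h.1) (fun h => P.he h.1 h.2)
      (P.slot.theta ((SymTen.TS Γ(S, Ω.V) P.chart.B d).val v)) fun b n hbn h => by
        show P.res (h.1 • b) = P.res b
        have hin := P.H.inv_mem h.2
        have e := congrArg ((SymProd.permActU f d h.1⁻¹).hom.appLE P.W P.W (P.W_le _ hin)).hom hbn
        rw [map_mul, map_pow, P.theta_fixed ((SymTen.TS Γ(S, Ω.V) P.chart.B d).val v)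
          (fun σ => (SymTen.perm_apply _ _ _ σ _).trans (v.2 σ))
          _ hin] at e
        simp only [RingHom.algebraMap_toAlgebra, hres _ hin, inv_inv, P.he h.1 h.2] at e
        exact e.symm.trans hbn
    let bH : P.fixed := ⟨b, fun h hh => hb ⟨h, hh⟩⟩
    refine ⟨IsLocalization.mk' P.L bH (⟨P.eH ^ n, n, rfl⟩ : Submonoid.powers P.eH), ?_⟩
    have hu : IsUnit (P.res P.e ^ n) := (IsLocalization.map_units Γ(SymProd.fibPow f d, P.W)
      (⟨P.e, Submonoid.mem_powers P.e⟩ : Submonoid.powers P.e)).pow n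
    refine hu.mul_right_cancel ?_
    have e := congrArg P.iota (IsLocalization.mk'_spec P.L bH
      (⟨P.eH ^ n, n, rfl⟩ : Submonoid.powers P.eH))
    rw [map_mul, P.iota_algebraMap, P.iota_algebraMap] at e
    rw [← map_pow]
    exact e.trans (heq.symm.trans (by rw [← map_pow]; rfl))
  choose θ hθ using hex
  have inj := P.iota_injective
  refine ⟨{ toFun := θ, map_one' := inj ?_, map_mul' := fun a b => inj ?_,
            map_zero' := inj ?_, map_add' := fun a b => inj ?_, commutes' := fun r => inj ?_ }, hθ⟩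
  · rw [hθ, map_one, map_one, map_one]
  · rw [hθ, map_mul, map_mul, map_mul, hθ, hθ]
  · rw [hθ, map_zero, map_zero, map_zero]
  · rw [hθ, map_add, map_add, map_add, hθ, hθ]
  · rw [hθ, AlgHom.commutes, Chart.Slot.theta_algebraMap,
      IsScalarTower.algebraMap_apply Γ(S, Ω.V) P.fixed P.L, P.iota_algebraMap]
    exact (congr(($(Scheme.Hom.appLE_map (WidePullback.base fun _ : Fin d => f) Ω.hbO
      (homOfLE ((SymProd.fibPow f d).basicOpen_le P.e)).op)).hom r)).symm

end Spot

end Groth.Agent.ZBSym
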