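import Groth.Agent.ZBSym.Alg
import Groth.Agent.ZBSym.Spot
import Groth.Agent.ZBSym.FibPow

/-!
# Invariant functions are locally generated by the invariants of the base
-/

set_option autoImplicit false
universe u

open CategoryTheory CategoryTheory.Limits AlgebraicGeometry TopologicalSpace
open scoped TensorProduct

namespace Groth.Agent.ZBSym

section PermAction

variable (R : Type u) [CommRing R] (R' : Type u) [CommRing R'] [Algebra R R'] (B : Type u)
  [CommRing B] [Algebra R B] (d : ℕ)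

theorem perm_one : SymTen.perm R B d 1 = AlgHom.id R _ := by
  refine PiTensorProduct.algHom_ext fun i => AlgHom.ext fun b => ?_
  show SymTen.perm R B d 1 (PiTensorProduct.tprod R (Pi.mulSingle i b)) = _
  rw [SymTen.perm_tprod]
  rfl

theorem perm_mul (σ τ : Equiv.Perm (Fin d)) :
    SymTen.perm R B d (σ * τ) = (SymTen.perm R B d σ).comp (SymTen.perm R B d τ) := by
  refine PiTensorProduct.algHom_ext fun i => AlgHom.ext fun b => ?_
  show SymTen.perm R B d (σ * τ) (PiTensorProduct.tprod R (Pi.mulSingle i b)) =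
    SymTen.perm R B d σ (SymTen.perm R B d τ (PiTensorProduct.tprod R (Pi.mulSingle i b)))
  rw [SymTen.perm_tprod, SymTen.perm_tprod, SymTen.perm_tprod]
  rfl

/-- The symmetric group acting on a tensor power after a change of the base ring. -/
@[implicit_reducible]
noncomputable def permAction :
    MulSemiringAction (ULift.{u} (Equiv.Perm (Fin d))) (R' ⊗[R] (⨂[R] _ : Fin d, B)) where
  smul σ z := permQ R R' B σ.down z
  one_smul z := by
    show Algebra.TensorProduct.map (AlgHom.id R' R') (SymTen.perm R B d 1) z = z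
    rw [perm_one, Algebra.TensorProduct.map_id]
    rfl
  mul_smul σ τ z := by
    show Algebra.TensorProduct.map (AlgHom.id R' R') (SymTen.perm R B d (σ.down * τ.down)) z = _
    rw [perm_mul, Algebra.TensorProduct.map_id_comp]
    rfl
  smul_zero σ := map_zero (permQ R R' B σ.down)
  smul_add σ := map_add (permQ R R' B σ.down)
  smul_one σ := map_one (permQ R R' B σ.down)
  smul_mul σ := map_mul (permQ R R' B σ.down)

end PermAction

theorem isAffineOpen_fst_preimage {A B S : Scheme.{u}} (a : A ⟶ S) (b : B ⟶ S) [IsAffine B]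
    {V : S.Opens} (hV : IsAffineOpen V) {O : A.Opens} (hO : IsAffineOpen O) (hOV : O ≤ a ⁻¹ᵁ V)
    (hbV : (⊤ : B.Opens) ≤ b ⁻¹ᵁ V) : IsAffineOpen (pullback.fst a b ⁻¹ᵁ O) := by
  haveI : IsAffine O.toScheme := hO
  haveI : IsAffine V.toScheme := hV
  haveI hba : IsAffine (pullback (O.ι ≫ a) b) := by
    let b₀ : B ⟶ V.toScheme := IsOpenImmersion.lift V.ι b (by
      rintro _ ⟨v, rfl⟩
      simpa using hbV (x := v) trivial)
    let a₀ : O.toScheme ⟶ V.toScheme := IsOpenImmersion.lift V.ι (O.ι ≫ a) (by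
      rintro _ ⟨v, rfl⟩
      simpa using hOV v.2)
    haveI : IsAffine (pullback a₀ b₀) := inferInstance
    let e : pullback (O.ι ≫ a) b ≅ pullback a₀ b₀ :=
      pullback.congrHom (IsOpenImmersion.lift_fac V.ι (O.ι ≫ a) _).symm
        (IsOpenImmersion.lift_fac V.ι b _).symm ≪≫
        limit.isoLimitCone ⟨_, pullbackIsPullbackOfCompMono a₀ b₀ V.ι⟩
    exact .of_isIso e.hom
  exact .of_isIso (((pullbackRestrictIsoRestrict (pullback.fst a b) O).symm ≪≫
    pullbackSymmetry _ _ ≪≫ pullbackRightPullbackFstIso a b O.ι).hom)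

variable {X S : Scheme.{u}} {f : X ⟶ S} {d : ℕ}

theorem isClosedImmersion_fibPowMap {Z : Scheme.{u}} (i : Z ⟶ X) [IsClosedImmersion i] (fZ : Z ⟶ S)
    (w : i ≫ f = fZ) : IsClosedImmersion (SymProd.fibPowMap fZ d f i w) :=
  property_fibPowMap f @IsClosedImmersion i fZ w ‹_› d

theorem Chart.Phi_equivariant (C : Chart f) (σ : Equiv.Perm (Fin d)) :
    Spec.map (CommRingCat.ofHom (SymTen.perm Γ(S, C.V) C.B d σ⁻¹).toRingHom) ≫ C.Phi d =
      C.Phi d ≫ SymProd.permHom f d σ := by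
  refine WidePullback.hom_ext _ _ _ (fun i => ?_) ?_
  · rw [Category.assoc, Category.assoc, C.Phi_π, SymProd.permHom_π, C.Phi_π, ← Spec.map_comp_assoc]
    congr 2
    ext b
    exact C.perm_single σ⁻¹ i b
  · rw [Category.assoc, Category.assoc, C.Phi_base, SymProd.permHom_base, C.Phi_base,
      ← Spec.map_comp_assoc]
    congr 2
    ext r
    exact (SymTen.perm Γ(S, C.V) C.B d σ⁻¹).commutes r

variable (Ω : StableOpen f d)

set_option maxHeartbeats 4000000 in
/-- Locally at any point, a function on a base change invariant under permutations is a fraction of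
elements of the ring generated by the base and the invariants. -/
theorem exists_fraction {Z S' : Scheme.{u}} [IsAffine S'] (i : Z ⟶ X) [IsClosedImmersion i]
    (fZ : Z ⟶ S) (w : i ≫ f = fZ) (gS : S' ⟶ S) (hgS : (⊤ : S'.Opens) ≤ gS ⁻¹ᵁ Ω.V)
    (hflat : ∀ C : Chart fZ, ∀ hC : (⊤ : S'.Opens) ≤ gS ⁻¹ᵁ C.V,
      letI := (gS.appLE C.V ⊤ hC).hom.toAlgebra
      Module.Flat Γ(S', ⊤) (Γ(S', ⊤) ⊗[Γ(S, C.V)] C.B))
    (ρ' : Sd.{u} d →* Aut (pullback (WidePullback.base fun _ : Fin d => fZ) gS))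
    (hρ' : ∀ σ, (ρ' σ).hom ≫ pullback.fst (WidePullback.base fun _ : Fin d => fZ) gS =
        pullback.fst (WidePullback.base fun _ : Fin d => fZ) gS ≫ SymProd.permHom fZ d σ.down ∧
      (ρ' σ).hom ≫ pullback.snd (WidePullback.base fun _ : Fin d => fZ) gS =
        pullback.snd (WidePullback.base fun _ : Fin d => fZ) gS)
    (k : pullback (WidePullback.base fun _ : Fin d => fZ) gS ⟶ SymProd.fibPow f d)
    (hk : k = pullback.fst _ _ ≫ SymProd.fibPowMap fZ d f i w)
    (hst' : ∀ g, k ⁻¹ᵁ Ω.O ≤ (ρ' g).hom ⁻¹ᵁ k ⁻¹ᵁ Ω.O)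
    (t : Γ(pullback (WidePullback.base fun _ : Fin d => fZ) gS, k ⁻¹ᵁ Ω.O))
    (ht : ∀ g, ((ρ' g).hom.appLE _ _ (hst' g)).hom t = t)
    (z' : ↥(pullback (WidePullback.base fun _ : Fin d => fZ) gS : Scheme.{u})) (hz' : k z' ∈ Ω.O) :
    ∃ σ α, σ ∈ Subring.closure
        (Set.range ((pullback.snd (WidePullback.base fun _ : Fin d => fZ) gS).appLE ⊤ (k ⁻¹ᵁ Ω.O)
          le_top).hom ∪ (k.app Ω.O).hom '' {a | ∀ g : Sd.{u} d, g • a = a}) ∧
      α ∈ Subring.closure
        (Set.range ((pullback.snd (WidePullback.base fun _ : Fin d => fZ) gS).appLE ⊤ (k ⁻¹ᵁ Ω.O)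
          le_top).hom ∪ (k.app Ω.O).hom '' {a | ∀ g : Sd.{u} d, g • a = a}) ∧
      z' ∈ (pullback (WidePullback.base fun _ : Fin d => fZ) gS).basicOpen σ ∧ t * σ = α := by
  classical
  obtain ⟨P⟩ := exists_spot Ω (k z') hz'
  let bZ := WidePullback.base (fun _ : Fin d => fZ)
  let Tp := pullback bZ gS
  let O' : Tp.Opens := k ⁻¹ᵁ Ω.O
  let C' := P.chart.comap i fZ w
  let R := Γ(S, Ω.V)
  let R' := Γ(S', ⊤)
  letI : Algebra R R' := (gS.appLE Ω.V ⊤ hgS).hom.toAlgebra
  letI : Algebra R C'.B := C'.algB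
  haveI : Module.Flat R' (R' ⊗[R] C'.B) := hflat C' hgS
  let Q := R' ⊗[R] C'.P d
  letI := permAction R R' C'.B d
  have hequiv : ∀ g, (ρ' g).hom ≫ k = k ≫ (SymProd.permActU f d g).hom := fun g => by
    rw [hk, ← Category.assoc, (hρ' g).1, Category.assoc, Category.assoc]
    congr 1
    refine WidePullback.hom_ext _ _ _ (fun m => ?_) ?_
    · simp
    · simp
  have hkπ : ∀ m, k ≫ WidePullback.π (fun _ : Fin d => f) m =
      pullback.fst bZ gS ≫ WidePullback.π (fun _ : Fin d => fZ) m ≫ i := fun m => by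
    rw [hk, Category.assoc, SymProd.fibPowMap_π]
  have hkb : k ≫ WidePullback.base (fun _ : Fin d => f) = pullback.fst bZ gS ≫ bZ := by
    rw [hk, Category.assoc, SymProd.fibPowMap_base]
  -- the map of spectra
  let Φ : Spec (CommRingCat.of Q) ⟶ Tp := pullback.lift
    (Spec.map (CommRingCat.ofHom (Algebra.TensorProduct.includeRight (R := R) (A := R')
      (B := C'.P d)).toRingHom) ≫ C'.Phi d)
    (Spec.map (CommRingCat.ofHom (Algebra.TensorProduct.includeLeftRingHom :
      R' →+* Q)) ≫ (isAffineOpen_top S').fromSpec) (by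
      rw [Category.assoc, C'.Phi_base, ← Spec.map_comp_assoc, Category.assoc,
        ← IsAffineOpen.SpecMap_appLE_fromSpec gS Ω.hV (isAffineOpen_top S') hgS, ← Spec.map_comp_assoc]
      congr 2
      ext r
      exact ((Algebra.TensorProduct.includeRight (R := R) (A := R') (B := C'.P d)).commutes r))
  have hΦ : ∀ g, (specAct (Sd.{u} d) Q g).hom ≫ Φ = Φ ≫ (ρ' g).hom := fun g => by
    refine pullback.hom_ext ?_ ?_
    · rw [Category.assoc, Category.assoc, (hρ' g).1, pullback.lift_fst, pullback.lift_fst_assoc,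
        Category.assoc, ← C'.Phi_equivariant g.down, specAct_hom, ← Spec.map_comp_assoc,
        ← Spec.map_comp_assoc]
      congr 2
    · rw [Category.assoc, Category.assoc, (hρ' g).2, pullback.lift_snd, specAct_hom,
        ← Spec.map_comp_assoc]
      congr 2
      ext r
      show permQ R R' C'.B _ (r ⊗ₜ[R] (1 : C'.P d)) = r ⊗ₜ[R] 1
      simp
  -- the open of the spot
  let e' : Γ(Tp, O') := (k.app Ω.O).hom P.e
  have hbe : k ⁻¹ᵁ P.W = Tp.basicOpen e' := Scheme.preimage_basicOpen k P.e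
  let W' : Tp.Opens := Tp.basicOpen e'
  have hWO : W' ≤ O' := Tp.basicOpen_le e'
  have hO' : IsAffineOpen O' := by
    have h1 : O' = pullback.fst bZ gS ⁻¹ᵁ (SymProd.fibPowMap fZ d f i w ⁻¹ᵁ Ω.O) := by
      show k ⁻¹ᵁ Ω.O = _
      rw [hk, Scheme.Hom.comp_preimage]
    rw [h1]
    haveI : IsClosedImmersion (SymProd.fibPowMap fZ d f i w) := isClosedImmersion_fibPowMap i fZ w
    refine isAffineOpen_fst_preimage bZ gS Ω.hV (Ω.hO.preimage _) ?_ hgS
    intro x hx
    show bZ x ∈ Ω.V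
    show (WidePullback.base fun _ : Fin d => fZ) x ∈ Ω.V
    rw [← SymProd.fibPowMap_base fZ d f i w]
    exact Ω.hbO hx
  have hW' : IsAffineOpen W' := hO'.basicOpen e'
  haveI : IsAffine W'.toScheme := hW'
  have hWW : W' ≤ k ⁻¹ᵁ P.W := hbe.ge
  let slot' : C'.Slot Tp d :=
    { b := pullback.fst bZ gS ≫ bZ
      p := fun m => pullback.fst bZ gS ≫ WidePullback.π (fun _ : Fin d => fZ) m
      w := fun m => by rw [Category.assoc, WidePullback.π_arrow]
      W := W'
      c := P.c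
      hc := fun m x hx => by
        show (pullback.fst bZ gS ≫ WidePullback.π (fun _ : Fin d => fZ) m ≫ i) x ∈ P.U (P.c m)
        rw [← hkπ]
        exact P.hc m (hWW hx)
      hb := fun x hx => by
        show (pullback.fst bZ gS ≫ bZ) x ∈ Ω.V
        rw [← hkb]
        exact Ω.hbO (hWO hx) }
  let kW : Γ(SymProd.fibPow f d, P.W) →+* Γ(Tp, W') := (k.appLE P.W W' hWW).hom
  have hθu : ∀ u : P.chart.P d,
      slot'.theta (SymTen.tmap R d (P.chart.pull i fZ w) u) = kW (P.slot.theta u) := by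
    intro u
    let D2 : P.chart.Slot Tp d :=
      { b := pullback.fst bZ gS ≫ bZ
        p := fun m => pullback.fst bZ gS ≫ WidePullback.π (fun _ : Fin d => fZ) m ≫ i
        w := fun m => by rw [Category.assoc, Category.assoc, w, WidePullback.π_arrow]
        W := W'
        c := P.c
        hc := fun m x hx => by
          show (pullback.fst bZ gS ≫ WidePullback.π (fun _ : Fin d => fZ) m ≫ i) x ∈ P.U (P.c m)
          rw [← hkπ]
          exact P.hc m (hWW hx)
        hb := slot'.hb }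
    rw [P.chart.theta_pull i fZ w D2 slot' rfl (fun m => Category.assoc _ _ _) (fun _ => rfl) le_rfl]
    exact (congr(($(Tp.presheaf.map_id _)).hom (D2.theta u))).trans
      (P.slot.theta_natural k D2 hkb hkπ (fun _ => rfl) hWW u).symm
  letI algW : Algebra R Γ(Tp, W') := slot'.alg
  let cW : R' →+* Γ(Tp, W') := ((pullback.snd bZ gS).appLE ⊤ W' le_top).hom
  have hcW : ∀ r : R, cW (algebraMap R R' r) = algebraMap R Γ(Tp, W') r := fun r =>
    Chart.appLE_comp_apply (pullback.snd bZ gS) gS hgS le_top r (pullback.condition).symm slot'.hb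
  let cWa : R' →ₐ[R] Γ(Tp, W') := { cW with commutes' := hcW }
  let θa : C'.P d →ₐ[R] Γ(Tp, W') :=
    { slot'.theta with commutes' := fun r => slot'.theta_algebraMap r }
  let θQ : Q →+* Γ(Tp, W') :=
    (Algebra.TensorProduct.lift cWa θa fun _ _ => Commute.all _ _).toRingHom
  have hθQ : ∀ r x, θQ (r ⊗ₜ[R] x) = cW r * slot'.theta x := fun r x =>
    Algebra.TensorProduct.lift_tmul cWa θa _ r x
  let κ : W'.toScheme ⟶ Spec (CommRingCat.of Q) := W'.toSpecΓ ≫ Spec.map (CommRingCat.ofHom θQ)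
  have hκ : κ ≫ Φ = W'.ι := by
    refine pullback.hom_ext ?_ ?_
    · simp only [κ, Φ, Category.assoc, pullback.lift_fst]
      have e : (CommRingCat.ofHom ((Algebra.TensorProduct.includeRight (R := R) (A := R')
          (B := C'.P d)).toRingHom : C'.P d →+* Q) : CommRingCat.of (C'.P d) ⟶ CommRingCat.of Q) ≫
            (CommRingCat.ofHom θQ : CommRingCat.of Q ⟶ Γ(Tp, W')) =
          CommRingCat.ofHom slot'.theta :=
        CommRingCat.hom_ext <| RingHom.ext fun x => (hθQ 1 x).trans (by rw [map_one, one_mul]; rfl)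
      rw [← Spec.map_comp_assoc]
      erw [e]
      erw [slot'.toSpecΓ_theta_Phi]
      congr 1
      refine WidePullback.hom_ext _ _ _ (fun m => ?_) ?_
      · rw [WidePullback.lift_π]
      · rw [WidePullback.lift_base]
    · simp only [κ, Φ, Category.assoc, pullback.lift_snd]
      have e : (CommRingCat.ofHom (Algebra.TensorProduct.includeLeftRingHom : R' →+* Q) :
            CommRingCat.of R' ⟶ CommRingCat.of Q) ≫
            (CommRingCat.ofHom θQ : CommRingCat.of Q ⟶ Γ(Tp, W')) = (pullback.snd bZ gS).appLE ⊤ W' le_top :=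
        CommRingCat.hom_ext <| RingHom.ext fun x => (hθQ x 1).trans (by rw [map_one, mul_one])
      rw [← Spec.map_comp_assoc]
      erw [e]
      rw [Scheme.Opens.toSpecΓ_SpecMap_appLE_assoc, IsAffineOpen.toSpecΓ_fromSpec]
      exact Scheme.Hom.resLE_comp_ι _ _
  have hzW : z' ∈ W' := by
    show z' ∈ Tp.basicOpen e'
    rw [← hbe]
    exact P.hz
  obtain ⟨s, hle, hs, hws, hnum⟩ := exists_numerators (specAct (Sd.{u} d) Q) ρ' Φ hΦ O' hst'
    (κ ⟨z', hzW⟩) (by
      show (κ ≫ Φ) ⟨z', hzW⟩ ∈ O'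
      rw [hκ]
      exact hz')
  obtain ⟨a, N, ha, hrel⟩ := hnum t ht
  let toQ : Γ(Spec (CommRingCat.of Q), ⊤) →+* Q := (Scheme.ΓSpecIso (CommRingCat.of Q)).hom.hom
  have hκtop : ∀ x, W'.topIso.hom.hom (κ.appTop.hom x) = θQ (toQ x) := fun x => by
    have e : κ.appTop ≫ W'.topIso.hom =
        (Scheme.ΓSpecIso (CommRingCat.of Q)).hom ≫ CommRingCat.ofHom θQ := by
      simp only [κ, Scheme.Hom.comp_appTop, Scheme.Opens.toSpecΓ_appTop, Category.assoc,
        Iso.inv_hom_id, Category.comp_id, Scheme.ΓSpecIso_naturality]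
    exact congr(($e).hom x)
  have hinvQ : ∀ x : Γ(Spec (CommRingCat.of Q), ⊤),
      (∀ g, (specAct (Sd.{u} d) Q g).hom.appTop.hom x = x) →
        ∀ σ, permQ R R' C'.B σ (toQ x) = toQ x := by
    intro x hx σ
    have e := hx (ULift.up σ)⁻¹
    rw [show x = (Scheme.ΓSpecIso (CommRingCat.of Q)).inv.hom (toQ x) from
      ((Scheme.ΓSpecIso (CommRingCat.of Q)).hom_inv_id_apply x).symm, specAct_appTop, inv_inv] at e
    exact (ConcreteCategory.bijective_of_isIso (Scheme.ΓSpecIso (CommRingCat.of Q)).inv).1 e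
  -- the relation on the open of the spot
  obtain ⟨M, hM⟩ : ∃ M : ℕ, θQ (toQ s) ^ M *
      ((Tp.presheaf.map (homOfLE hWO).op).hom t * θQ (toQ s) ^ N - θQ (toQ a)) = 0 := by
    let E := W'.toScheme
    let σE : Γ(E, ⊤) := κ.appTop.hom s
    have hpre : κ ⁻¹ᵁ (Spec (CommRingCat.of Q)).basicOpen s = E.basicOpen σE :=
      Scheme.preimage_basicOpen_top κ s
    letI : Algebra Γ(E, ⊤) Γ(E, E.basicOpen σE) :=
      (E.presheaf.map (homOfLE le_top).op).hom.toAlgebra
    haveI : IsLocalization.Away σE Γ(E, E.basicOpen σE) :=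
      (isAffineOpen_top E).isLocalization_basicOpen σE
    have e1 := congrArg (κ.appLE _ (E.basicOpen σE) hpre.ge).hom hrel
    rw [map_mul, map_pow] at e1
    have htop : ∀ x, (κ.appLE _ (E.basicOpen σE) hpre.ge).hom
        (((Spec (CommRingCat.of Q)).presheaf.map (homOfLE le_top).op).hom x) =
          algebraMap Γ(E, ⊤) Γ(E, E.basicOpen σE) (κ.appTop.hom x) := fun x => by
      have e : (Spec (CommRingCat.of Q)).presheaf.map (homOfLE le_top).op ≫
          κ.appLE ((Spec (CommRingCat.of Q)).basicOpen s) (E.basicOpen σE) hpre.ge =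
          κ.appTop ≫ E.presheaf.map (homOfLE le_top).op := by
        rw [Scheme.Hom.map_appLE]
        rfl
      exact congr(($e).hom x)
    have hO'E : (⊤ : E.Opens) ≤ W'.ι ⁻¹ᵁ O' := fun x _ => hWO x.2
    have ht' : (κ.appLE _ (E.basicOpen σE) hpre.ge).hom
        ((Φ.appLE O' ((Spec (CommRingCat.of Q)).basicOpen s) hle).hom t) =
        algebraMap Γ(E, ⊤) Γ(E, E.basicOpen σE) ((W'.ι.appLE O' ⊤ hO'E).hom t) := by
      refine (Chart.appLE_comp_apply κ Φ hle hpre.ge t hκ (fun x _ => hWO x.2)).trans ?_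
      exact congr(($(Scheme.Hom.appLE_map W'.ι hO'E (homOfLE le_top).op)).hom t).symm
    rw [ht', htop, htop, ← map_pow, ← map_mul] at e1
    obtain ⟨⟨_, M, rfl⟩, hM⟩ :=
      (IsLocalization.eq_iff_exists (Submonoid.powers σE) _).1 e1
    refine ⟨M, ?_⟩
    have hι : W'.topIso.hom.hom ((W'.ι.appLE O' ⊤ hO'E).hom t) =
        (Tp.presheaf.map (homOfLE hWO).op).hom t := by
      have e : W'.ι.appLE O' ⊤ hO'E ≫ W'.topIso.hom = Tp.presheaf.map (homOfLE hWO).op := by
        simp only [Scheme.Hom.appLE, Scheme.Opens.ι_app, Scheme.Opens.topIso_hom,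
          Scheme.Opens.toScheme_presheaf_map]
        erw [← Functor.map_comp, ← Functor.map_comp]
        rfl
      exact congr(($e).hom t)
    have h2 := congrArg W'.topIso.hom.hom hM
    simp only [map_mul, map_pow, σE, hκtop, hι] at h2
    rw [mul_sub, h2, sub_self]
  -- expressing invariants through fixed functions
  obtain ⟨θL, hθL⟩ := P.exists_thetaL
  letI : Algebra R Γ(Tp, O') :=
    ((k ≫ WidePullback.base fun _ : Fin d => f).appLE Ω.V O' (k.preimage_mono Ω.hbO)).hom.toAlgebra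
  let cO : R' →ₐ[R] Γ(Tp, O') :=
    { ((pullback.snd bZ gS).appLE ⊤ O' le_top).hom with
      commutes' := fun r => Chart.appLE_comp_apply (pullback.snd bZ gS) gS hgS le_top r
        (pullback.condition.symm.trans hkb.symm) _ }
  let kH : P.fixed →ₐ[R] Γ(Tp, O') :=
    { (k.app Ω.O).hom.comp P.fixed.val.toRingHom with
      commutes' := fun r => by
        show (k.app Ω.O).hom (((WidePullback.base fun _ : Fin d => f).appLE Ω.V Ω.O Ω.hbO).hom r) = _
        rw [Scheme.Hom.app_eq_appLE]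
        exact Chart.appLE_comp_apply k _ Ω.hbO _ r rfl _ }
  let μ : R' ⊗[R] P.fixed →+* Γ(Tp, O') :=
    (Algebra.TensorProduct.lift cO kH fun _ _ => Commute.all _ _).toRingHom
  have hμ : ∀ r b, μ (r ⊗ₜ[R] b) = cO r * (k.app Ω.O).hom b.1 := fun r b =>
    Algebra.TensorProduct.lift_tmul cO kH _ r b
  let res' : Γ(Tp, O') →+* Γ(Tp, W') := (Tp.presheaf.map (homOfLE hWO).op).hom
  have hres_c : ∀ r, res' (cO r) = cW r := fun r =>
    congr(($(Scheme.Hom.appLE_map (pullback.snd bZ gS) (U := ⊤) (V := O') le_top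
      (homOfLE hWO).op)).hom r)
  have hres_k : ∀ b : Γ(SymProd.fibPow f d, Ω.O), res' ((k.app Ω.O).hom b) = kW (P.res b) := fun b => by
    have e : k.app Ω.O ≫ Tp.presheaf.map (homOfLE hWO).op =
        (SymProd.fibPow f d).presheaf.map
          (homOfLE ((SymProd.fibPow f d).basicOpen_le P.e)).op ≫ k.appLE P.W W' hWW := by
      rw [Scheme.Hom.map_appLE, Scheme.Hom.app_eq_appLE, Scheme.Hom.appLE_map]
    exact congr(($e).hom b)
  let Good : Γ(Tp, W') → Prop := fun y =>
    ∃ (zH : R' ⊗[R] P.fixed) (n : ℕ), y * res' e' ^ n = res' (μ zH)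
  have heμ : ∀ n : ℕ, μ ((1 : R') ⊗ₜ[R] (P.eH ^ n)) = e' ^ n := fun n => by
    rw [hμ, map_one, one_mul, SubmonoidClass.coe_pow, map_pow]
    rfl
  have hgood_add : ∀ y y', Good y → Good y' → Good (y + y') := by
    rintro y y' ⟨z₁, n₁, h₁⟩ ⟨z₂, n₂, h₂⟩
    refine ⟨z₁ * ((1 : R') ⊗ₜ[R] (P.eH ^ n₂)) + z₂ * ((1 : R') ⊗ₜ[R] (P.eH ^ n₁)), n₁ + n₂, ?_⟩
    rw [map_add, map_mul, map_mul, heμ, heμ, map_add, map_mul, map_mul, map_pow, map_pow, ← h₁, ← h₂,
      pow_add]
    ring
  have hgood_span : ∀ x : Q, (∀ σ, permQ R R' C'.B σ x = x) → Good (θQ x) := by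
    intro x hx
    have hmem := mem_span_of_invariant (R' := R') (P.chart.pull i fZ w)
      (P.chart.pull_surjective i fZ w) x hx
    clear hx
    induction hmem using Submodule.span_induction with
    | zero => exact ⟨0, 0, by simp⟩
    | add u v _ _ hu hv => rw [map_add]; exact hgood_add _ _ hu hv
    | smul r u _ hu =>
      obtain ⟨zH, n, hn⟩ := hu
      refine ⟨r • zH, n, ?_⟩
      rw [show r • u = (r ⊗ₜ[R] (1 : C'.P d)) * u from Algebra.smul_def r u,
        show r • zH = (r ⊗ₜ[R] (1 : P.fixed)) * zH from Algebra.smul_def r zH,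
        map_mul, map_mul, map_mul, hθQ, hμ, map_one, mul_one, mul_assoc, hn]
      simp only [OneMemClass.coe_one, map_one, mul_one, hres_c]
    | mem u hu =>
      obtain ⟨v, rfl⟩ := hu
      obtain ⟨⟨b, ⟨_, n, rfl⟩⟩, hb⟩ := IsLocalization.surj (Submonoid.powers P.eH) (θL v)
      refine ⟨(1 : R') ⊗ₜ[R] b, n, ?_⟩
      rw [hθQ, map_one, one_mul, hθu, ← hθL, hμ, map_one, one_mul, hres_k]
      rw [hres_k, ← map_pow, ← map_mul, ← P.iota_algebraMap b, ← hb, map_mul P.iota, ← map_pow,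
        P.iota_algebraMap]
      rfl
  obtain ⟨zS, n₁, hS⟩ := hgood_span _ (hinvQ s hs)
  obtain ⟨zA, n₂, hA⟩ := hgood_span _ (hinvQ a ha)
  -- clearing the denominators
  letI algO' : Algebra Γ(Tp, O') Γ(Tp, W') := res'.toAlgebra
  haveI : IsLocalization.Away e' Γ(Tp, W') := hO'.isLocalization_basicOpen e'
  have hloc : res' (μ zS ^ M * (t * μ zS ^ N * e' ^ n₂ - μ zA * e' ^ (n₁ * N))) = 0 := by
    simp only [map_mul, map_sub, map_pow, ← hS, ← hA, mul_pow, pow_mul]
    linear_combination (res' e' ^ n₁) ^ M * (res' e' ^ n₂) * (res' e' ^ n₁) ^ N * hM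
  obtain ⟨⟨_, m, rfl⟩, hm⟩ := (IsLocalization.map_eq_zero_iff (Submonoid.powers e') _ _).1 hloc
  let σ₁ := μ ((zS ^ (M + N)) * ((1 : R') ⊗ₜ[R] (P.eH ^ (m + n₂ + 1))))
  let α₁ := μ ((zS ^ M * zA) * ((1 : R') ⊗ₜ[R] (P.eH ^ (m + 1 + n₁ * N))))
  have hσ₁ : σ₁ = μ zS ^ (M + N) * e' ^ (m + n₂ + 1) := by simp only [σ₁, map_mul, map_pow, heμ]
  have hα₁ : α₁ = μ zS ^ M * μ zA * e' ^ (m + 1 + n₁ * N) := by
    simp only [α₁, map_mul, map_pow, heμ]
  have htσ : t * σ₁ = α₁ := by
    rw [hσ₁, hα₁]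
    linear_combination e' * hm
  -- the trace
  letI actO' : MulSemiringAction (Sd.{u} d) Γ(Tp, O') := SGA1Q.secAction ρ' O' hst'
  have hsc : ∀ (g : Sd.{u} d) r, g • cO r = cO r := fun g r =>
    Chart.appLE_comp_apply (ρ' g⁻¹).hom (pullback.snd bZ gS) le_top (hst' _) r (hρ' g⁻¹).2 _
  have hsk : ∀ (g : Sd.{u} d) b, g • (k.app Ω.O).hom b = (k.app Ω.O).hom (g • b) := fun g b => by
    have e : k.app Ω.O ≫ (ρ' g⁻¹).hom.appLE O' O' (hst' _) =
        (SymProd.permActU f d g⁻¹).hom.appLE Ω.O Ω.O (Ω.hst _) ≫ k.app Ω.O := by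
      rw [Scheme.Hom.app_eq_appLE, Scheme.Hom.appLE_comp_appLE, Scheme.Hom.appLE_comp_appLE]
      exact SGA1Q.appLE_congr_hom (hequiv g⁻¹) _ _
    exact congr(($e).hom b)
  have hHμ : ∀ h ∈ P.H, ∀ zH : R' ⊗[R] P.fixed, h • μ zH = μ zH := by
    intro h hh zH
    induction zH using TensorProduct.induction_on with
    | zero => rw [map_zero, smul_zero]
    | tmul r b => rw [hμ, smul_mul', hsc, hsk, b.2 h hh]
    | add u v hu hv => rw [map_add, smul_add, hu, hv]
  have hLG : ∀ zH : R' ⊗[R] P.fixed, tr P.H (μ zH) ∈ Subring.closure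
      (Set.range ((pullback.snd bZ gS).appLE ⊤ O' le_top).hom ∪
        (k.app Ω.O).hom '' {a | ∀ g : Sd.{u} d, g • a = a}) := by
    intro zH
    induction zH using TensorProduct.induction_on with
    | zero => rw [map_zero, tr_zero]; exact zero_mem _
    | add u v hu hv => rw [map_add, tr_add]; exact add_mem hu hv
    | tmul r b =>
      rw [hμ, tr_mul P.H (fun g => hsc g r)]
      refine mul_mem (Subring.subset_closure (Or.inl ⟨r, rfl⟩))
        (Subring.subset_closure (Or.inr ⟨tr P.H b.1, fun g => smul_tr P.H b.2 g, ?_⟩))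
      simp only [tr, map_sum, hsk]
  let q : Ideal Γ(Tp, O') := RingHom.ker (Tp.evaluation O' z' hz').hom
  have hq : ∀ x, x ∈ q ↔ z' ∉ Tp.basicOpen x := fun x =>
    Scheme.evaluation_eq_zero_iff_notMem_basicOpen Tp (U := O') z' hz' x
  have hqp : q.IsPrime := RingHom.ker_isPrime _
  have hσq : σ₁ ∉ q := by
    have he : e' ∉ q := fun h => (hq _).1 h hzW
    have hzs : μ zS ∉ q := fun h => (hq _).1 h (by
      have h1 : z' ∈ Tp.basicOpen (res' (μ zS)) := by
        rw [← hS, Scheme.basicOpen_mul]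
        refine ⟨?_, ?_⟩
        · have h2 : (⟨z', hzW⟩ : W'.toScheme) ∈ W'.toScheme.basicOpen (κ.appTop.hom s) := by
            rw [← Scheme.preimage_basicOpen_top]; exact hws
          have h3 : z' ∈ W'.ι ''ᵁ W'.toScheme.basicOpen (κ.appTop.hom s) := ⟨_, h2, rfl⟩
          rw [show κ.appTop.hom s = W'.topIso.inv.hom (θQ (toQ s)) by
            rw [← hκtop]; exact (W'.topIso.hom_inv_id_apply _).symm] at h3
          exact (Scheme.Opens.ι_image_basicOpen_topIso_inv W' _).le h3
        · suffices hpow : ∀ j : ℕ, z' ∈ Tp.basicOpen (res' e' ^ j) from hpow n₁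
          intro j
          induction j with
          | zero => rw [pow_zero, Scheme.basicOpen_one]; exact hzW
          | succ j ih =>
            rw [pow_succ, Scheme.basicOpen_mul]
            refine ⟨ih, ?_⟩
            show z' ∈ Tp.basicOpen ((Tp.presheaf.map (homOfLE hWO).op).hom e')
            rw [Scheme.basicOpen_res]
            exact ⟨hzW, hzW⟩
      rw [Scheme.basicOpen_res] at h1
      exact h1.2)
    rw [hσ₁]
    exact hqp.mul_notMem (fun h => hzs (hqp.mem_of_pow_mem _ h))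
      (fun h => he (hqp.mem_of_pow_mem _ h))
  have hout : ∀ g, g ∉ P.H → g • σ₁ ∈ q := by
    intro g hg
    have he : g • e' ∈ q := by
      rw [hq]
      intro hmem
      rw [show g • e' = (k.app Ω.O).hom (g • P.e) from hsk g P.e] at hmem
      rw [← Scheme.preimage_basicOpen, Ω.basicOpen_smul] at hmem
      exact P.hout g⁻¹ (fun h => hg (inv_inv g ▸ P.H.inv_mem h)) hmem.2
    rw [hσ₁, smul_mul', smul_pow' g e']
    exact q.mul_mem_left _ (q.pow_mem_of_mem he _ (Nat.succ_pos _))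
  refine ⟨tr P.H σ₁, tr P.H α₁, hLG _, hLG _, ?_, ?_⟩
  · by_contra h
    exact tr_notMem P.H q (fun h' hh => hHμ h' hh _) hσq hout ((hq _).2 h)
  · rw [← tr_mul P.H (fun g => ?_) σ₁, htσ]
    exact ht g⁻¹

end Groth.Agent.ZBSym
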